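import Groth.Agent.L12.HypSq.Hyper
import Groth.Agent.L22.Inter.Mixed

/-! Intersection numbers on the square of a curve. -/

set_option autoImplicit false
set_option linter.style.haveILetI false
set_option linter.unusedSectionVars false
set_option backward.isDefEq.respectTransparency false
set_option backward.isDefEq.respectTransparency.types false

universe u

open CategoryTheory CategoryTheory.Limits AlgebraicGeometry TopologicalSpace Opposite

noncomputable section

namespace Groth.L12.HypSq

open Groth.L21.RR (h hk euler_congr deg_congr)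
open Groth.L00.Tensor

section General

variable {k : Type u} [Field k] {X : Scheme.{u}} [X.Over (Spec (CommRingCat.of k))]
  [IsProper (X ↘ Spec (CommRingCat.of k))]

/-- The intersection number of two invertible modules on a scheme of dimension at most two. -/
theorem intNum_two (hd : topologicalKrullDim X ≤ (2 : ℕ)) (A B : X.Modules) :
    FGA.intNum k X 2 ![A, B] (Coh.structureModule X) =
      Curv2.euler k X (Coh.structureModule X) - Curv2.euler k X A - Curv2.euler k X B +
        Curv2.euler k X (CohB1.tensorMod A B) := by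
  haveI := Groth.L21.RR.isNoetherian_of_proper (X := X) k
  have e := Groth.L22.Inter.intNum_eq k hd ![A, B] (Coh.structureModule X)
  simp only [Matrix.vecCons, Groth.L22.Inter.altT_cons, Groth.L22.Inter.altT_zero_eq] at e
  rw [euler_congr k (tensorUnitLeft A), euler_congr k (tensorUnitLeft B),
    euler_congr k (tensorIso (tensorUnitLeft A) (Iso.refl B))] at e
  ring_nf at e
  exact_mod_cast (by simp only [Matrix.vecCons]; linarith : (FGA.intNum k X 2 ![A, B] (Coh.structureModule X) : ℚ) =
    Curv2.euler k X (Coh.structureModule X) - Curv2.euler k X A - Curv2.euler k X B +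
        Curv2.euler k X (CohB1.tensorMod A B))

end General

variable {k : Type u} [Field k] {C : Scheme.{u}} [C.Over (Spec (CommRingCat.of k))]
  [IsProper (C ↘ Spec (CommRingCat.of k))] [Smooth (C ↘ Spec (CommRingCat.of k))] [ConnectedSpace ↥C]
  [IsAlgClosed k] (hdim : topologicalKrullDim ↥C = 1)

/-- The structure sheaf as an exterior product. -/
def boxUnitIso : box (k := k) (Coh.structureModule C) (Coh.structureModule C) ≅ Coh.structureModule (Sq k C) :=
  tensorIso (Groth.L29.LocFree.pullbackUnitIso _) (Groth.L29.LocFree.pullbackUnitIso _) ≪≫ tensorUnitRight _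

/-- A module from the first factor as an exterior product. -/
def boxFstIso (A : C.Modules) : box (k := k) A (Coh.structureModule C) ≅
    (Scheme.Modules.pullback (pullback.fst (C ↘ Spec (CommRingCat.of k)) (C ↘ Spec (CommRingCat.of k)))).obj A :=
  tensorIso (Iso.refl _) (Groth.L29.LocFree.pullbackUnitIso _) ≪≫ tensorUnitRight _

/-- A module from the second factor as an exterior product. -/
def boxSndIso (B : C.Modules) : box (k := k) (Coh.structureModule C) B ≅
    (Scheme.Modules.pullback (pullback.snd (C ↘ Spec (CommRingCat.of k)) (C ↘ Spec (CommRingCat.of k)))).obj B :=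
  tensorIso (Groth.L29.LocFree.pullbackUnitIso _) (Iso.refl _) ≪≫ tensorUnitLeft _

/-- Products of exterior products. -/
def boxMulIso (A B A' B' : C.Modules) : CohB1.tensorMod (box (k := k) A B) (box (k := k) A' B') ≅
    box (k := k) (CohB1.tensorMod A A') (CohB1.tensorMod B B') :=
  tensorMiddleFour _ _ _ _ ≪≫
    tensorIso (Groth.L29.DC.PullTensor.pullTensor _ _ _) (Groth.L29.DC.PullTensor.pullTensor _ _ _)

theorem deg_structure' : Curv2.deg k C (Coh.structureModule C) 1 = 0 :=
  haveI := isIntegral (k := k) (C := C)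
  Groth.L21.Duality.deg_structureModule

theorem deg_pullback_unit {f : C ⟶ C} :
    Curv2.deg k C ((Scheme.Modules.pullback f).obj (Coh.structureModule C)) 1 = 0 := by
  rw [deg_congr k (Groth.L29.LocFree.pullbackUnitIso f), deg_structure']

include hdim in
theorem euler_eq_deg (A : C.Modules) :
    Curv2.euler k C A = Curv2.deg k C A 1 + (1 - (Curv2.genus k C : ℤ)) := by
  rw [Curv2.deg, euler_structure hdim]
  push_cast
  ring

include hdim in
theorem euler_sq_structure :
    Curv2.euler k (Sq k C) (Coh.structureModule (Sq k C)) = (1 - (Curv2.genus k C : ℤ)) ^ 2 := by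
  rw [← euler_congr k (boxUnitIso (k := k) (C := C)), euler_box hdim (Groth.L18.Ample.isInvertible_structureModule C)
    (Groth.L18.Ample.isInvertible_structureModule C), euler_structure hdim]
  ring

variable {f : C ⟶ C} [IsIso f] (hf : f ≫ (C ↘ Spec (CommRingCat.of k)) = C ↘ Spec (CommRingCat.of k))
  {N : (Sq k C).Modules} (hN : PicF.IsInvertible N)
  (hNinv : ClSub.IsInverseOf N (ClSub.idealMod (graph hf).ker))

include hdim hN hNinv in
theorem euler_graphPow (r : ℕ) : Curv2.euler k (Sq k C) (CohB1.tensorPow N r) =
    (1 - (Curv2.genus k C : ℤ)) ^ 2 - ((Curv2.genus k C : ℤ) - 1) * r * (r + 2) := by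
  rw [← euler_congr k (show tw (box (k := k) (Coh.structureModule C) (Coh.structureModule C)) N r ≅
      CohB1.tensorPow N r from tensorIso boxUnitIso (Iso.refl _) ≪≫ tensorUnitLeft _),
    euler_tw hf hN hNinv hdim (Groth.L18.Ample.isInvertible_structureModule C)
      (Groth.L18.Ample.isInvertible_structureModule C), deg_pullback_unit, deg_structure', euler_structure hdim]
  ring

include hdim hN hNinv in
/-- The self-intersection of a graph. -/
theorem intNum_graph_self :
    FGA.intNum k (Sq k C) 2 ![N, N] (Coh.structureModule (Sq k C)) = 2 - 2 * (Curv2.genus k C : ℤ) := by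
  have h1 := euler_graphPow hdim hf hN hNinv 1
  have h2 := euler_graphPow hdim hf hN hNinv 2
  rw [euler_congr k (tensorPowOne N)] at h1
  rw [euler_congr k (show CohB1.tensorPow N 2 ≅ CohB1.tensorMod N N from
    tensorIso (tensorPowOne N) (Iso.refl N))] at h2
  rw [intNum_two (dim_sq hdim), euler_sq_structure hdim, h1, h2]
  push_cast
  ring

include hdim hN hNinv in
/-- The intersection of a graph with a fibre class. -/
theorem intNum_fibre_graph {A : C.Modules} (hA : PicF.IsInvertible A) :
    FGA.intNum k (Sq k C) 2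
        ![(Scheme.Modules.pullback (pullback.fst (C ↘ Spec (CommRingCat.of k)) (C ↘ Spec (CommRingCat.of k)))).obj A, N]
        (Coh.structureModule (Sq k C)) = Curv2.deg k C A 1 := by
  have h1 := euler_graphPow hdim hf hN hNinv 1
  rw [euler_congr k (tensorPowOne N)] at h1
  rw [intNum_two (dim_sq hdim), euler_sq_structure hdim, h1, ← euler_congr k (boxFstIso (k := k) A),
    euler_box hdim hA (Groth.L18.Ample.isInvertible_structureModule C),
    ← euler_congr k (show tw (box (k := k) A (Coh.structureModule C)) N 1 ≅ _ from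
      tensorIso (boxFstIso A) (tensorPowOne N)),
    euler_tw hf hN hNinv hdim hA (Groth.L18.Ample.isInvertible_structureModule C), deg_pullback_unit,
    euler_eq_deg hdim A, euler_structure hdim]
  push_cast
  ring

omit [IsIso f] in
include hdim in
theorem intNum_fibre_fst {A B : C.Modules} (hA : PicF.IsInvertible A) (hB : PicF.IsInvertible B) :
    FGA.intNum k (Sq k C) 2
        ![(Scheme.Modules.pullback (pullback.fst (C ↘ Spec (CommRingCat.of k)) (C ↘ Spec (CommRingCat.of k)))).obj A,
          (Scheme.Modules.pullback (pullback.fst (C ↘ Spec (CommRingCat.of k)) (C ↘ Spec (CommRingCat.of k)))).obj B]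
        (Coh.structureModule (Sq k C)) = 0 := by
  haveI := isIntegral (k := k) (C := C)
  have hAB := Groth.L18.GenLoc.isInvertible_tensor hA hB
  have hO := Groth.L18.Ample.isInvertible_structureModule C
  rw [intNum_two (dim_sq hdim), euler_sq_structure hdim,
    ← euler_congr k (show box (k := k) (CohB1.tensorMod A B) (Coh.structureModule C) ≅ _ from
      boxFstIso _ ≪≫ (Groth.L29.DC.PullTensor.pullTensor _ A B).symm),
    ← euler_congr k (boxFstIso (k := k) A), ← euler_congr k (boxFstIso (k := k) B),
    euler_box hdim hA hO, euler_box hdim hB hO, euler_box hdim hAB hO, euler_eq_deg hdim (CohB1.tensorMod A B),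
    Groth.L21.Duality.deg_tensor hdim hA hB, euler_eq_deg hdim A, euler_eq_deg hdim B, euler_structure hdim]
  ring

omit [IsIso f] in
include hdim in
theorem intNum_fibre_snd {A B : C.Modules} (hA : PicF.IsInvertible A) (hB : PicF.IsInvertible B) :
    FGA.intNum k (Sq k C) 2
        ![(Scheme.Modules.pullback (pullback.fst (C ↘ Spec (CommRingCat.of k)) (C ↘ Spec (CommRingCat.of k)))).obj A,
          (Scheme.Modules.pullback (pullback.snd (C ↘ Spec (CommRingCat.of k)) (C ↘ Spec (CommRingCat.of k)))).obj B]
        (Coh.structureModule (Sq k C)) = Curv2.deg k C A 1 * Curv2.deg k C B 1 := by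
  have hO := Groth.L18.Ample.isInvertible_structureModule C
  rw [intNum_two (dim_sq hdim), euler_sq_structure hdim, ← euler_congr k (boxFstIso (k := k) A),
    ← euler_congr k (boxSndIso (k := k) B), euler_box hdim hA hO, euler_box hdim hO hB,
    euler_congr k (tensorIso (boxFstIso (k := k) A) (boxSndIso (k := k) B) ≪≫ Iso.refl _).symm,
    euler_congr k (boxMulIso (k := k) A (Coh.structureModule C) (Coh.structureModule C) B ≪≫
      tensorIso ((Scheme.Modules.pullback _).mapIso (tensorUnitRight A))
        ((Scheme.Modules.pullback _).mapIso (tensorUnitLeft B))),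
    euler_box hdim hA hB, euler_eq_deg hdim A, euler_eq_deg hdim B, euler_structure hdim]
  ring

omit [IsIso f] in
include hdim in
/-- The module of a rational point has degree one. -/
theorem deg_point (x : Spec (CommRingCat.of k) ⟶ C) (hx : x ≫ (C ↘ Spec (CommRingCat.of k)) = 𝟙 (Spec (CommRingCat.of k)))
    {A : C.Modules} (hA : PicF.IsInvertible A) (hAinv : ClSub.IsInverseOf A (ClSub.idealMod x.ker)) :
    Curv2.deg k C A 1 = 1 := by
  letI : (Spec (CommRingCat.of k)).Over (Spec (CommRingCat.of k)) := ⟨𝟙 _⟩
  haveI : IsProper ((Spec (CommRingCat.of k)) ↘ Spec (CommRingCat.of k)) :=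
    inferInstanceAs (IsProper (𝟙 (Spec (CommRingCat.of k))))
  haveI : IsClosedImmersion x := by
    haveI : IsClosedImmersion (x ≫ (C ↘ Spec (CommRingCat.of k))) := by rw [hx]; infer_instance
    exact IsClosedImmersion.of_comp x (C ↘ Spec (CommRingCat.of k))
  haveI : C.IsSeparated := ⟨by
    rw [show terminal.from C = (C ↘ Spec (CommRingCat.of k)) ≫ terminal.from _ from terminal.hom_ext _ _]
    infer_instance⟩
  haveI : Subsingleton ↥(Spec (CommRingCat.of k)) := inferInstanceAs (Subsingleton (PrimeSpectrum k))
  haveI : Nonempty ↥(Spec (CommRingCat.of k)) := inferInstanceAs (Nonempty (PrimeSpectrum k))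
  have hxA := Groth.L18.Ample.isInvertible_pullback x hA
  obtain ⟨i⟩ : Nonempty ((Scheme.Modules.pullback x).obj A ≅ Coh.structureModule (Spec (CommRingCat.of k))) := by
    obtain ⟨W, e, hW, he⟩ := Groth.L18.Frame.exists_frame hxA (Classical.arbitrary _)
    obtain rfl : W = ⊤ := top_le_iff.1 fun y _ => Subsingleton.elim _ y ▸ hW
    exact Groth.L08.Cube.nonempty_iso_of_frame_top he
  obtain ⟨e⟩ := hAinv
  have h1 := euler_step (k := k) x hA hx (Groth.L18.Ample.isInvertible_structureModule C) e
  have hd : topologicalKrullDim ↥(Spec (CommRingCat.of k)) ≤ (0 : ℕ) := by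
    refine le_of_eq ?_
    exact (PrimeSpectrum.topologicalKrullDim_eq_ringKrullDim k).trans (ringKrullDim_eq_zero_of_field k)
  haveI := Groth.L21.RR.isNoetherian_of_proper (X := Spec (CommRingCat.of k)) k
  have hs : Curv2.euler k (Spec (CommRingCat.of k)) (Coh.structureModule (Spec (CommRingCat.of k))) = 1 := by
    haveI : IsIntegral (Spec (CommRingCat.of k)) := inferInstance
    rw [Groth.L21.RR.euler_eq k (hd.trans (by norm_num)), Groth.L22.CurveDeg.h0_structure_eq_one k,
      Groth.L21.RR.h_eq_zero_of_subsingleton k (Groth.L22.Inter.subsingleton_HH_of_dim hd _ Nat.one_pos)]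
    rfl
  rw [euler_congr k i, hs, euler_eq_deg hdim A, euler_structure hdim] at h1
  linarith

end Groth.L12.HypSq

namespace Groth.L12.HypSq

open Groth.L21.RR (euler_congr deg_congr)

variable {k : Type u} [Field k] {C : Scheme.{u}} [C.Over (Spec (CommRingCat.of k))]
  [IsProper (C ↘ Spec (CommRingCat.of k))] [Smooth (C ↘ Spec (CommRingCat.of k))] [ConnectedSpace ↥C]
  [IsAlgClosed k] (hdim : topologicalKrullDim ↥C = 1)
  {κ : C ⟶ CohB1.ProjSpace 1 k} [IsFinite κ] [Flat κ]
  (hκ : κ ≫ CohB1.ProjSpace.toSpec 1 k = (C ↘ Spec (CommRingCat.of k)))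
  (hκ2 : ∀ y : ↥(CohB1.ProjSpace 1 k), κ.finrank y = 2)
  {σ : C ⟶ C} (hσ : σ ≫ κ = κ) (hσp : σ ≫ (C ↘ Spec (CommRingCat.of k)) = C ↘ Spec (CommRingCat.of k))

include hdim hκ hκ2 hσ hσp in
/-- An automorphism over the double cover preserves degrees. -/
theorem deg_pullback_eq {B : C.Modules} (hB : PicF.IsInvertible B) :
    Curv2.deg k C ((Scheme.Modules.pullback σ).obj B) 1 = Curv2.deg k C B 1 := by
  haveI := isIntegral (k := k) (C := C)
  haveI := isIso_of_comp_eq hdim hκ hκ2 hσ hσp
  have hση : σ (genericPoint C) = genericPoint C := by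
    exact genericPoint_eq_of_isOpenImmersion σ
  have h1 := Groth.Agent.S7640.result k C C hdim hdim σ hσp hση 1 (pencil κ)
    (Groth.L22.CurveDeg.Det.isFinLocFreeOfRank_one_of_isInvertible (isInvertible_pencil κ))
  have h2 := Groth.Agent.S7640.result k C C hdim hdim σ hσp hση 1 B
    (Groth.L22.CurveDeg.Det.isFinLocFreeOfRank_one_of_isInvertible hB)
  obtain ⟨e⟩ := nonempty_pullback_pencil (κ := κ) hσ
  rw [Curv2.deg, euler_congr k e, ← Curv2.deg.eq_def, deg_pencil hdim hκ hκ2] at h1
  have h3 : σ.residueDegree (genericPoint C) = 1 := by omega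
  rw [h2, h3]
  simp

end Groth.L12.HypSq
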