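import Groth.Agent.L12.HypSq.Step
import Groth.Agent.L20.ResDescent
import Groth.Agent.L18.CoprodModules
import Groth.Agent.L03.ShStab.RankOneSlope
import Groth.Agent.L22.CurveDeg.Maps
import Groth.Agent.L19.LimMod.Cmp

/-! Morphisms of invertible modules and their restrictions to closed subschemes. -/

set_option autoImplicit false
set_option linter.style.haveILetI false
set_option linter.unusedSectionVars false
set_option backward.isDefEq.respectTransparency false
set_option backward.isDefEq.respectTransparency.types false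

universe u

open CategoryTheory CategoryTheory.Limits AlgebraicGeometry TopologicalSpace Opposite

noncomputable section

namespace Groth.L12.HypSq

variable {X Z W Y : Scheme.{u}}

theorem pullback_map_eq_zero_of_comp_eta (j : Z ⟶ X) {A G : X.Modules} (φ : A ⟶ G)
    (h : φ ≫ VBLift.eta j G = 0) : (Scheme.Modules.pullback j).map φ = 0 := by
  let adj := Scheme.Modules.pullbackPushforwardAdjunction j
  refine (adj.homEquiv _ _).injective ?_
  rw [Adjunction.homEquiv_unit, Adjunction.homEquiv_unit, Functor.map_zero, comp_zero]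
  exact (adj.unit.naturality φ).symm.trans h

theorem comp_eta_eq_zero (j : Z ⟶ X) {A G : X.Modules} (φ : A ⟶ G)
    (h : (Scheme.Modules.pullback j).map φ = 0) : φ ≫ VBLift.eta j G = 0 := by
  let adj := Scheme.Modules.pullbackPushforwardAdjunction j
  exact (adj.unit.naturality φ).trans (by rw [Functor.comp_map, h, Functor.map_zero, comp_zero])

theorem pullback_map_comp_eq_zero (a : Z ⟶ Y) (b : Y ⟶ X) {A G : X.Modules} (φ : A ⟶ G)
    (h : (Scheme.Modules.pullback b).map φ = 0) : (Scheme.Modules.pullback (a ≫ b)).map φ = 0 := by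
  haveI : (Scheme.Modules.pullback a).IsLeftAdjoint := (Scheme.Modules.pullbackPushforwardAdjunction a).isLeftAdjoint
  have h1 := (Scheme.Modules.pullbackComp a b).hom.naturality φ
  rw [Functor.comp_map, h, Functor.map_zero, zero_comp] at h1
  exact (cancel_epi ((Scheme.Modules.pullbackComp a b).hom.app A)).1 (h1.symm.trans comp_zero.symm)

theorem pullback_map_eq_zero_of_comp (a : Z ⟶ Y) (b : Y ⟶ X) {A G : X.Modules} (φ : A ⟶ G)
    (h : (Scheme.Modules.pullback (a ≫ b)).map φ = 0) :
    (Scheme.Modules.pullback a).map ((Scheme.Modules.pullback b).map φ) = 0 := by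
  have h1 := (Scheme.Modules.pullbackComp a b).hom.naturality φ
  rw [h, comp_zero] at h1
  exact (cancel_mono ((Scheme.Modules.pullbackComp a b).hom.app G)).1 (h1.trans zero_comp.symm)

/-- A morphism of invertible modules, an isomorphism off a closed subscheme, stays non-zero after pullback along a
morphism not landing in the closed subscheme. -/
theorem pullback_map_ne_zero (j : Z ⟶ X) {G₁ G : X.Modules} (hG : PicF.IsInvertible G) (a : G₁ ⟶ G)
    (w : a ≫ VBLift.eta j G = 0) (hS : (ShortComplex.mk a (VBLift.eta j G) w).ShortExact)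
    (hj : IsClosed (Set.range j)) [IsIntegral W] (g : W ⟶ X) (c : W) (hc : g c ∉ Set.range j) :
    (Scheme.Modules.pullback g).map a ≠ 0 := by
  intro h0
  let U : X.Opens := ⟨(Set.range j)ᶜ, hj.isOpen_compl⟩
  let V : W.Opens := g ⁻¹ᵁ U
  haveI : Nonempty ↥(V : Scheme.{u}) := ⟨⟨c, hc⟩⟩
  haveI : IsIntegral (V : Scheme.{u}) := isIntegral_of_isOpenImmersion V.ι
  haveI : (Scheme.Modules.pullback U.ι).IsLeftAdjoint :=
    (Scheme.Modules.pullbackPushforwardAdjunction U.ι).isLeftAdjoint
  haveI : PreservesColimitsOfSize.{0, 0} (Scheme.Modules.pullback U.ι) :=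
    (Scheme.Modules.pullbackPushforwardAdjunction U.ι).leftAdjoint_preservesColimits
  have hz : IsZero ((Scheme.Modules.pullback U.ι).obj
      ((Scheme.Modules.pushforward j).obj ((Scheme.Modules.pullback j).obj G))) :=
    Groth.L18.CoprodMod.isZero_pullback_pushforward_of_disjoint U.ι j (fun O => le_bot_iff.1 fun z hz => by
      obtain ⟨u, -, hu⟩ := (show j z ∈ U.ι ''ᵁ O from hz)
      exact u.2 ⟨z, hu.symm⟩) _
  haveI := Groth.L19.LimMod.additive_pullback U.ι
  have hA : Epi ((Scheme.Modules.pullback U.ι).map a) := by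
    haveI := hS.epi_g
    have hmap := hS.exact.map_of_epi_of_preservesCokernel (Scheme.Modules.pullback U.ι) inferInstance inferInstance
    exact hmap.epi_f (hz.eq_of_tgt _ _)
  haveI : (Scheme.Modules.pullback (g ∣_ U)).IsLeftAdjoint :=
    (Scheme.Modules.pullbackPushforwardAdjunction (g ∣_ U)).isLeftAdjoint
  haveI : Epi ((Scheme.Modules.pullback (g ∣_ U)).map ((Scheme.Modules.pullback U.ι).map a)) := inferInstance
  have e : (Scheme.Modules.pullback (V.ι ≫ g)).map a = 0 := pullback_map_comp_eq_zero V.ι g a h0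
  rw [show V.ι ≫ g = (g ∣_ U) ≫ U.ι from (morphismRestrict_ι g U).symm] at e
  have e' := pullback_map_eq_zero_of_comp (g ∣_ U) U.ι a e
  refine Groth.L03.ShStab.RankOneSlope.not_isZero_invertible
    (M := (Scheme.Modules.pullback (g ∣_ U)).obj ((Scheme.Modules.pullback U.ι).obj G))
    (Groth.L18.Ample.isInvertible_pullback _ (Groth.L18.Ample.isInvertible_pullback _ hG)) ?_
  refine (IsZero.iff_id_eq_zero _).2
    ((cancel_epi ((Scheme.Modules.pullback (g ∣_ U)).map ((Scheme.Modules.pullback U.ι).map a))).1 ?_)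
  simp [e']

/-- A morphism that vanishes on the closed subscheme factors through the kernel of restriction. -/
theorem exists_factor (j : Z ⟶ X) {A G₁ G : X.Modules} (a : G₁ ⟶ G)
    (w : a ≫ VBLift.eta j G = 0) (hS : (ShortComplex.mk a (VBLift.eta j G) w).ShortExact) (φ : A ⟶ G)
    (h : (Scheme.Modules.pullback j).map φ = 0) : ∃ φ₁ : A ⟶ G₁, φ₁ ≫ a = φ := by
  haveI := hS.mono_f
  exact ⟨hS.exact.lift φ (comp_eta_eq_zero j φ h), hS.exact.lift_f _ _⟩

/-- A factorisation vanishes on a second subscheme when the morphism does and the kernel inclusion is non-zero there. -/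
theorem pullback_map_factor_eq_zero [IsIntegral W] (g : W ⟶ X) {A G₁ G : X.Modules} (hG₁ : PicF.IsInvertible G₁)
    (hG : PicF.IsInvertible G) (a : G₁ ⟶ G) (ha : (Scheme.Modules.pullback g).map a ≠ 0) (φ₁ : A ⟶ G₁)
    (h : (Scheme.Modules.pullback g).map (φ₁ ≫ a) = 0) : (Scheme.Modules.pullback g).map φ₁ = 0 := by
  haveI : Mono ((Scheme.Modules.pullback g).map a) := (Groth.L21.Mod.mono_iff_stalk_injective _).2 fun x =>
    Groth.L22.CurveDeg.injective_st_map (Groth.L18.Ample.isInvertible_pullback g hG₁)
      (Groth.L18.Ample.isInvertible_pullback g hG) ha x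
  rw [Functor.map_comp] at h
  exact zero_of_comp_mono _ h

end Groth.L12.HypSq
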