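import Groth.Agent.L12.HypSq.Point
import Groth.Agent.L12.HypSq.Section
import Groth.Agent.L08.Cube.SliceFibre
import Groth.Agent.L08.Cube.AmpleFixed
import Groth.Agent.L08.Cube.NoCurve
import Groth.Agent.L16.ProjSpace.AmpleIff
import Groth.Agent.L16.ProjSpace.TwistMul

/-! The diagonal and the graph of the involution add up to the sum of the two fibre classes. -/

set_option autoImplicit false
set_option linter.style.haveILetI false
set_option linter.unusedSectionVars false
set_option backward.isDefEq.respectTransparency false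
set_option backward.isDefEq.respectTransparency.types false

universe u

open CategoryTheory CategoryTheory.Limits AlgebraicGeometry TopologicalSpace Opposite

noncomputable section

namespace Groth.L12.HypSq

open Groth.L21.RR (h hk euler_congr deg_congr)
open Groth.L00.Tensor

section Criterion

variable {k : Type u} [Field k] {C : Scheme.{u}} [C.Over (Spec (CommRingCat.of k))]
  [IsProper (C ↘ Spec (CommRingCat.of k))] [Smooth (C ↘ Spec (CommRingCat.of k))] [ConnectedSpace ↥C]
  [IsAlgClosed k] (hdim : topologicalKrullDim ↥C = 1)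

theorem isIntegral_sq : IsIntegral (Sq k C) := by
  haveI := isIntegral (k := k) (C := C)
  haveI := Groth.L21.RR.isNoetherian_of_proper (X := C) k
  haveI := Groth.L08.Cube.geometricallyIntegral_of_isAlgClosed (C ↘ Spec (CommRingCat.of k))
  infer_instance

include hdim in
theorem genLocus_preimage_eq (i : C ⟶ Sq k C) {M : (Sq k C).Modules} (hM : PicF.IsInvertible M)
    (hdeg : Curv2.deg k C ((Scheme.Modules.pullback i).obj M) 1 = 0)
    (ψ : Coh.structureModule (Sq k C) ⟶ M) :
    i ⁻¹ᵁ CohB1.genLocus M ψ = ⊥ ∨ i ⁻¹ᵁ CohB1.genLocus M ψ = ⊤ := by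
  haveI := isIntegral (k := k) (C := C)
  let s := (Groth.L29.LocFree.pullbackUnitIso i).inv ≫ (Scheme.Modules.pullback i).map ψ
  have he : CohB1.genLocus _ s = i ⁻¹ᵁ CohB1.genLocus M ψ :=
    Groth.L18.Ample.genLocus_iso_pullback i hM ψ (Groth.L29.LocFree.pullbackUnitIso i).symm
  rw [← he]
  have hM' := Groth.L18.Ample.isInvertible_pullback i hM
  by_cases hs : s = 0
  · refine Or.inl (le_bot_iff.1 fun z hz => ?_)
    rw [hs] at hz
    exact (Groth.L16.notMem_genLocus_zero _ z hz).elim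
  · obtain ⟨h1, h2⟩ := Groth.L22.CurveDeg.deg_add k hdim.le
      (Groth.L18.Ample.isInvertible_structureModule C) hM' hs
    rw [hdeg, Groth.L22.CurveDeg.deg_structure] at h1
    haveI := h2 (by omega)
    refine Or.inr ?_
    rw [show s = 𝟙 _ ≫ (asIso s).hom from (Category.id_comp s).symm, Groth.L16.genLocus_comp_iso,
      Groth.L18.Ample.genLocus_id]

include hdim in
/-- A module of degree zero on all slices with a non-zero section is trivial. -/
theorem nonempty_iso_of_slices {M : (Sq k C).Modules} (hM : PicF.IsInvertible M)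
    (ψ : Coh.structureModule (Sq k C) ⟶ M) (hψ : ψ ≠ 0)
    (h1 : ∀ x hx, Curv2.deg k C ((Scheme.Modules.pullback (sliceFst x hx)).obj M) 1 = 0)
    (h2 : ∀ x hx, Curv2.deg k C ((Scheme.Modules.pullback (sliceSnd x hx)).obj M) 1 = 0) :
    Nonempty (M ≅ Coh.structureModule (Sq k C)) := by
  haveI := isIntegral_sq (k := k) (C := C)
  haveI := isIntegral (k := k) (C := C)
  haveI : JacobsonSpace ↥(Sq k C) := LocallyOfFiniteType.jacobsonSpace ((Sq k C) ↘ Spec (CommRingCat.of k))
  set U := CohB1.genLocus M ψ with hU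
  let pt := IsLocalRing.closedPoint k
  have hpt : ∀ a b : Spec (CommRingCat.of k) ⟶ C,
      a ≫ (C ↘ Spec (CommRingCat.of k)) = 𝟙 _ → b ≫ (C ↘ Spec (CommRingCat.of k)) = 𝟙 _ →
      ∀ (a' b' : Spec (CommRingCat.of k) ⟶ C) (ha' : a' ≫ (C ↘ Spec (CommRingCat.of k)) = 𝟙 _)
        (hb' : b' ≫ (C ↘ Spec (CommRingCat.of k)) = 𝟙 _) (hab : a ≫ (C ↘ Spec (CommRingCat.of k)) =
          b ≫ (C ↘ Spec (CommRingCat.of k))),
        (pullback.lift a b hab pt ∈ U ↔ pullback.lift a' b' (ha'.trans hb'.symm) pt ∈ U) := by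
    intro a b ha hb a' b' ha' hb' hab
    have e1 : ∀ (c : Spec (CommRingCat.of k) ⟶ C) (hc : c ≫ (C ↘ Spec (CommRingCat.of k)) = 𝟙 _),
        c ≫ sliceFst a ha = pullback.lift a c (ha.trans hc.symm) := fun c hc => by
      apply pullback.hom_ext
      · rw [Category.assoc, pullback.lift_fst, pullback.lift_fst, ← Category.assoc, hc, Category.id_comp]
      · rw [Category.assoc, pullback.lift_snd, pullback.lift_snd, Category.comp_id]
    have e2 : ∀ (c : Spec (CommRingCat.of k) ⟶ C) (hc : c ≫ (C ↘ Spec (CommRingCat.of k)) = 𝟙 _),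
        c ≫ sliceSnd b' hb' = pullback.lift c b' (hc.trans hb'.symm) := fun c hc => by
      apply pullback.hom_ext
      · rw [Category.assoc, pullback.lift_fst, pullback.lift_fst, Category.comp_id]
      · rw [Category.assoc, pullback.lift_snd, pullback.lift_snd, ← Category.assoc, hc, Category.id_comp]
    have s1 : pullback.lift a b hab pt ∈ U ↔ pullback.lift a b' (ha.trans hb'.symm) pt ∈ U := by
      rw [← e1 b hb, ← e1 b' hb', Scheme.Hom.comp_apply, Scheme.Hom.comp_apply]
      change b pt ∈ sliceFst a ha ⁻¹ᵁ U ↔ b' pt ∈ sliceFst a ha ⁻¹ᵁ U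
      rcases genLocus_preimage_eq hdim (sliceFst a ha) hM (h1 a ha) ψ with h | h <;> rw [hU, h] <;> simp
    have s2 : pullback.lift a b' (ha.trans hb'.symm) pt ∈ U ↔ pullback.lift a' b' (ha'.trans hb'.symm) pt ∈ U := by
      rw [← e2 a ha, ← e2 a' ha', Scheme.Hom.comp_apply, Scheme.Hom.comp_apply]
      change a pt ∈ sliceSnd b' hb' ⁻¹ᵁ U ↔ a' pt ∈ sliceSnd b' hb' ⁻¹ᵁ U
      rcases genLocus_preimage_eq hdim (sliceSnd b' hb') hM (h2 b' hb') ψ with h | h <;> rw [hU, h] <;> simp
    exact s1.trans s2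
  refine Groth.L08.Cube.nonempty_iso_of_genLocus_eq_top ψ
    (Groth.L08.Cube.eq_top_of_closedPoints _ fun z hz => ?_)
  obtain ⟨z₀, hz₀U, hz₀⟩ := nonempty_inter_closedPoints (Z := (U : Set (Sq k C)))
    (Groth.L08.Cube.genLocus_nonempty hM hψ) U.2.isLocallyClosed
  have hw : ∀ (z : (Sq k C)) (hz : IsClosed ({z} : Set (Sq k C))),
      ∃ (a b : Spec (CommRingCat.of k) ⟶ C) (ha : a ≫ (C ↘ Spec (CommRingCat.of k)) = 𝟙 _)
        (hb : b ≫ (C ↘ Spec (CommRingCat.of k)) = 𝟙 _), pullback.lift a b (ha.trans hb.symm) pt = z := by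
    intro z hz
    let w := pointOfClosedPoint ((Sq k C) ↘ Spec (CommRingCat.of k)) z hz
    have hwk := pointOfClosedPoint_comp ((Sq k C) ↘ Spec (CommRingCat.of k)) z hz
    refine ⟨w ≫ pullback.fst _ _, w ≫ pullback.snd _ _, (Category.assoc _ _ _).trans hwk, ?_, ?_⟩
    · rw [Category.assoc, ← pullback.condition]
      exact hwk
    · rw [show pullback.lift (w ≫ pullback.fst _ _) (w ≫ pullback.snd _ _) _ = w from
        pullback.hom_ext (pullback.lift_fst _ _ _) (pullback.lift_snd _ _ _)]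
      exact pointOfClosedPoint_apply _ z hz _
  obtain ⟨a, b, ha, hb, hab⟩ := hw z₀ hz₀
  obtain ⟨a', b', ha', hb', hab'⟩ := hw z hz
  have := hpt a b ha hb a' b' ha' hb' (ha.trans hb.symm)
  rw [hab, hab'] at this
  exact this.1 hz₀U

end Criterion

section DiagonalSection

variable (k : Type u) [Field k]

/-- A section of `O(1,1)` on the square of the projective line vanishing on the diagonal. -/
theorem exists_diag_section [IsAlgClosed k] :
    ∃ δ : Coh.structureModule (Sq k (CohB1.ProjSpace 1 k)) ⟶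
        box (k := k) (Twist.twistProjSpace 1 k 1) (Twist.twistProjSpace 1 k 1), δ ≠ 0 ∧
      (Scheme.Modules.pullback (graph (k := k) (f := 𝟙 (CohB1.ProjSpace 1 k)) (Category.id_comp _))).map δ = 0 := by
  haveI : IsProper (CohB1.ProjSpace 1 k ↘ Spec (CommRingCat.of k)) :=
    inferInstanceAs (IsProper (CohB1.ProjSpace.toSpec 1 k))
  haveI := Groth.L21.RR.isNoetherian_of_proper (X := Sq k (CohB1.ProjSpace 1 k)) k
  set G := box (k := k) (Twist.twistProjSpace 1 k 1) (Twist.twistProjSpace 1 k 1) with hG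
  let Δ := graph (k := k) (f := 𝟙 (CohB1.ProjSpace 1 k)) (Category.id_comp _)
  have hO := Groth.L16.ProjTwist.isInvertible_twistProjSpace 1 k 1
  have hG' : PicF.IsInvertible G := isInvertible_box hO hO
  have h4 : h k 0 G = 4 := by
    rw [hG, h0_box hO hO, show h k 0 (Twist.twistProjSpace 1 k 1) = 2 from (Groth.L21.P1.h_O k 1).1.trans (by rfl)]
  have h3 : h k 0 ((Scheme.Modules.pushforward Δ).obj ((Scheme.Modules.pullback Δ).obj G)) = 3 := by
    rw [h_restrict Δ hG' (graph_over _)]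
    obtain ⟨e⟩ := nonempty_pullback_box (k := k) (f := 𝟙 (CohB1.ProjSpace 1 k)) (Category.id_comp _)
      (Twist.twistProjSpace 1 k 1) (Twist.twistProjSpace 1 k 1)
    obtain ⟨e2⟩ := Groth.L16.ProjTwist.nonempty_twist_iso_tensorPow (CohB1.polyGrading 1 k)
      (fun x => by
        obtain ⟨i, hi⟩ := Groth.L16.ProjSpace.exists_mem_basicOpen_X 1 k x
        exact ⟨⟨MvPolynomial.X i, MvPolynomial.isHomogeneous_X k i⟩, hi⟩) 2
    rw [Groth.L21.RR.h_congr k (e ≪≫ tensorIso (tensorPowOne _).symm ((Scheme.Modules.pullbackId _).app _) ≪≫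
      e2.symm) 0]
    exact (Groth.L21.P1.h_O k 2).1.trans (by rfl)
  haveI := Groth.L21.RR.finite_HH' k (Groth.L16.ProperFinite.isCoh_of_isInvertible hG') 0
  haveI := finite_restrict (k := k) Δ hG' (graph_over _) 0
  have hker : LinearMap.ker (hk k (VBLift.eta Δ G) 0) ≠ ⊥ := by
    intro hb
    have := LinearMap.finrank_le_finrank_of_injective (LinearMap.ker_eq_bot.1 hb)
    simp only [h] at h3 h4
    omega
  obtain ⟨x, hx, hx0⟩ := Submodule.exists_mem_ne_zero_of_ne_bot hker
  let σ := Groth.L21.RR.e0 G x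
  refine ⟨Groth.L16.homOfSection G σ, fun h0 => hx0 ?_, pullback_map_eq_zero_of_comp_eta Δ _ ?_⟩
  · refine (Groth.L21.RR.e0 G).injective (Eq.trans ?_ (map_zero _).symm)
    have := congrArg Groth.L18.GenLoc.secOf h0
    rw [Groth.L18.GenLoc.secOf_homOfSection] at this
    exact this
  · rw [← Groth.L18.GenLoc.homOfSection_secOf (Groth.L16.homOfSection G σ ≫ VBLift.eta Δ G),
      ← Groth.L18.GenLoc.homOfSection_secOf (0 : Coh.structureModule _ ⟶ (Scheme.Modules.pushforward Δ).obj
        ((Scheme.Modules.pullback Δ).obj G))]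
    refine congrArg (Groth.L16.homOfSection _) ?_
    show (VBLift.eta Δ G).app ⊤ (Groth.L18.GenLoc.secOf (Groth.L16.homOfSection G σ)) = 0
    rw [Groth.L18.GenLoc.secOf_homOfSection, ← Groth.L21.RR.e0_hmap]
    exact (congrArg (Groth.L21.RR.e0 _) hx).trans (map_zero _)

end DiagonalSection

section Main

variable {k : Type u} [Field k] {C : Scheme.{u}} [C.Over (Spec (CommRingCat.of k))]
  [IsProper (C ↘ Spec (CommRingCat.of k))] [Smooth (C ↘ Spec (CommRingCat.of k))] [ConnectedSpace ↥C]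
  [IsAlgClosed k] (hdim : topologicalKrullDim ↥C = 1)
  {κ : C ⟶ CohB1.ProjSpace 1 k} [IsFinite κ] [Flat κ]
  (hκ : κ ≫ CohB1.ProjSpace.toSpec 1 k = (C ↘ Spec (CommRingCat.of k)))
  (hκ2 : ∀ y : ↥(CohB1.ProjSpace 1 k), κ.finrank y = 2)
  {σ : C ⟶ C} (hσ : σ ≫ κ = κ) (hσ1 : σ ≠ 𝟙 C)
  (hσp : σ ≫ (C ↘ Spec (CommRingCat.of k)) = C ↘ Spec (CommRingCat.of k))

include hκ hκ2 hσ in
/-- A non-zero section of the sum of the fibre classes vanishing on the diagonal and on the graph. -/
theorem exists_section : ∃ φ : Coh.structureModule (Sq k C) ⟶ box (k := k) (pencil κ) (pencil κ), φ ≠ 0 ∧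
    (Scheme.Modules.pullback (graph (k := k) (f := 𝟙 C) (Category.id_comp _))).map φ = 0 ∧
    (Scheme.Modules.pullback (graph hσp)).map φ = 0 := by
  obtain ⟨δ, hδ, hΔ⟩ := exists_diag_section k
  let Φ : Sq k C ⟶ Sq k (CohB1.ProjSpace 1 k) :=
    pullback.map _ _ _ _ κ κ (𝟙 _) ((Category.comp_id _).trans hκ.symm) ((Category.comp_id _).trans hκ.symm)
  haveI : Surjective κ := by
    rw [← Scheme.Hom.one_le_finrank_iff_surjective]
    intro y
    rw [hκ2 y]
    exact one_le_two
  haveI : IsFinite Φ := MorphismProperty.pullbackMap (P := @IsFinite) ‹_› ‹_› hκ.symm hκ.symm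
  haveI : Flat Φ := MorphismProperty.pullbackMap (P := @Flat) ‹_› ‹_› hκ.symm hκ.symm
  haveI : Surjective Φ := MorphismProperty.pullbackMap (P := @Surjective) ‹_› ‹_› hκ.symm hκ.symm
  let e : (Scheme.Modules.pullback Φ).obj (box (k := k) (Twist.twistProjSpace 1 k 1) (Twist.twistProjSpace 1 k 1)) ≅
      box (k := k) (pencil κ) (pencil κ) :=
    (Groth.L29.DC.PullTensor.pullTensor Φ _ _).symm ≪≫ tensorIso
      ((Scheme.Modules.pullbackComp _ _).app _ ≪≫ (Scheme.Modules.pullbackCongr (pullback.lift_fst _ _ _)).app _ ≪≫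
        (Scheme.Modules.pullbackComp _ _).symm.app _)
      ((Scheme.Modules.pullbackComp _ _).app _ ≪≫ (Scheme.Modules.pullbackCongr (pullback.lift_snd _ _ _)).app _ ≪≫
        (Scheme.Modules.pullbackComp _ _).symm.app _)
  let φ₀ := (Scheme.Modules.pullback Φ).map δ
  refine ⟨(Groth.L29.LocFree.pullbackUnitIso Φ).inv ≫ φ₀ ≫ e.hom, fun h0 => hδ ?_, ?_⟩
  · haveI : Coh.IsQCoh (Coh.structureModule (Sq k (CohB1.ProjSpace 1 k))) :=
      Groth.L21.Extend.isQCoh_of_isInvertible (Groth.L18.Ample.isInvertible_structureModule _)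
    haveI : Coh.IsQCoh (box (k := k) (Twist.twistProjSpace 1 k 1) (Twist.twistProjSpace 1 k 1)) :=
      Groth.L21.Extend.isQCoh_of_isInvertible (isInvertible_box (Groth.L16.ProjTwist.isInvertible_twistProjSpace 1 k 1)
        (Groth.L16.ProjTwist.isInvertible_twistProjSpace 1 k 1))
    refine Groth.L20.ResDescent.eq_zero_of_pullback Φ δ ?_
    rw [← cancel_epi (Groth.L29.LocFree.pullbackUnitIso Φ).inv, ← cancel_mono e.hom]
    simpa using h0
  · have key : ∀ (f : C ⟶ C) (hf : f ≫ (C ↘ Spec (CommRingCat.of k)) = C ↘ Spec (CommRingCat.of k)),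
        f ≫ κ = κ → (Scheme.Modules.pullback (graph hf)).map
          ((Groth.L29.LocFree.pullbackUnitIso Φ).inv ≫ φ₀ ≫ e.hom) = 0 := by
      intro f hf hfκ
      have hc : graph hf ≫ Φ = κ ≫ graph (k := k) (f := 𝟙 (CohB1.ProjSpace 1 k)) (Category.id_comp _) := by
        apply pullback.hom_ext
        · simp [Φ]
          exact Category.id_comp κ
        · simp [Φ, hfκ]
      have h0 := pullback_map_comp_eq_zero κ _ δ hΔ
      rw [← hc] at h0
      have h1 := pullback_map_eq_zero_of_comp (graph hf) Φ δ h0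
      haveI := Groth.L19.LimMod.additive_pullback (graph hf)
      rw [Functor.map_comp, Functor.map_comp, h1, zero_comp, comp_zero]
    exact ⟨key (𝟙 C) (Category.id_comp _) (Category.id_comp _), key σ hσp hσ⟩

include hdim hσ1 in
/-- The graph of the involution is not contained in the diagonal. -/
theorem exists_graph_notMem :
    ∃ c : C, graph hσp c ∉ Set.range (graph (k := k) (f := 𝟙 C) (Category.id_comp _)) := by
  haveI := isIntegral (k := k) (C := C)
  by_contra hall
  push Not at hall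
  haveI : LocallyOfFiniteType (σ ≫ (C ↘ Spec (CommRingCat.of k))) := by rw [hσp]; infer_instance
  refine hσ1 (ext_of_apply_eq (C ↘ Spec (CommRingCat.of k)) Set.univ isOpen_univ.isLocallyClosed
    dense_univ (fun x _ _ => ?_) (hσp.trans (Category.id_comp _).symm))
  obtain ⟨y, hy⟩ := hall x
  have h1 := congrArg (pullback.fst (C ↘ Spec (CommRingCat.of k)) (C ↘ Spec (CommRingCat.of k))) hy
  have h2 := congrArg (pullback.snd (C ↘ Spec (CommRingCat.of k)) (C ↘ Spec (CommRingCat.of k))) hy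
  rw [← Scheme.Hom.comp_apply, ← Scheme.Hom.comp_apply, pullback.lift_fst, pullback.lift_fst] at h1
  rw [← Scheme.Hom.comp_apply, ← Scheme.Hom.comp_apply, pullback.lift_snd, pullback.lift_snd] at h2
  rw [← h2, h1]

variable {N ND : (Sq k C).Modules} (hN : PicF.IsInvertible N)
  (hNinv : ClSub.IsInverseOf N (ClSub.idealMod (graph hσp).ker))
  (hND : PicF.IsInvertible ND)
  (hNDinv : ClSub.IsInverseOf ND (ClSub.idealMod (graph (k := k) (f := 𝟙 C) (Category.id_comp _)).ker))

include hdim hκ hκ2 hσ hσ1 hσp hN hNinv hND hNDinv in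
theorem nonempty_diag_add_graph :
    Nonempty (CohB1.tensorMod ND N ≅ box (k := k) (pencil κ) (pencil κ)) := by
  haveI := isIntegral (k := k) (C := C)
  haveI := isIntegral_sq (k := k) (C := C)
  haveI := isIso_of_comp_eq hdim hκ hκ2 hσ hσp
  haveI := Groth.L21.RR.isNoetherian_of_proper (X := Sq k C) k
  have hL := isInvertible_pencil κ
  set F := box (k := k) (pencil κ) (pencil κ) with hF
  have hF' : PicF.IsInvertible F := isInvertible_box hL hL
  set ID := ClSub.idealMod (graph (k := k) (f := 𝟙 C) (Category.id_comp _)).ker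
  set IS := ClSub.idealMod (graph hσp).ker
  obtain ⟨iD⟩ := hNDinv
  obtain ⟨iS⟩ := hNinv
  have hID : PicF.IsInvertible ID := Groth.L16.NegPow.isInvertible_inverse hND iD
  have hIS : PicF.IsInvertible IS := Groth.L16.NegPow.isInvertible_inverse hN iS
  let M1 := CohB1.tensorMod F ID
  have hM1 : PicF.IsInvertible M1 := Groth.L18.GenLoc.isInvertible_tensor hF' hID
  let M2 := CohB1.tensorMod M1 IS
  have hM2 : PicF.IsInvertible M2 := Groth.L18.GenLoc.isInvertible_tensor hM1 hIS
  obtain ⟨φ, hφ0, hφD, hφS⟩ := exists_section hκ hκ2 hσ hσp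
  obtain ⟨a, w, hSa⟩ := exists_seq (graph (k := k) (f := 𝟙 C) (Category.id_comp _)) hF' (Iso.refl M1)
  obtain ⟨φ₁, hφ₁⟩ := exists_factor _ a w hSa φ hφD
  obtain ⟨c, hc⟩ := exists_graph_notMem hdim hσ1 hσp
  have ha := pullback_map_ne_zero _ hF' a w hSa
    (Scheme.Hom.isClosedEmbedding (graph (k := k) (f := 𝟙 C) (Category.id_comp _))).isClosed_range (graph hσp) c hc
  have hφ₁S : (Scheme.Modules.pullback (graph hσp)).map φ₁ = 0 :=
    pullback_map_factor_eq_zero (graph hσp) hM1 hF' a ha φ₁ (by rw [hφ₁]; exact hφS)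
  obtain ⟨b, w', hSb⟩ := exists_seq (graph hσp) hM1 (Iso.refl M2)
  obtain ⟨φ₂, hφ₂⟩ := exists_factor _ b w' hSb φ₁ hφ₁S
  have hφ₂0 : φ₂ ≠ 0 := fun h0 => hφ0 (by rw [← hφ₁, ← hφ₂, h0, zero_comp, zero_comp])
  have degM : ∀ (i : C ⟶ Sq k C), Curv2.deg k C ((Scheme.Modules.pullback i).obj F) 1 = 2 →
      Curv2.deg k C ((Scheme.Modules.pullback i).obj ND) 1 = 1 →
      Curv2.deg k C ((Scheme.Modules.pullback i).obj N) 1 = 1 →
      Curv2.deg k C ((Scheme.Modules.pullback i).obj M2) 1 = 0 := by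
    intro i dF dD dS
    have hp : ∀ {A : (Sq k C).Modules}, PicF.IsInvertible A → PicF.IsInvertible ((Scheme.Modules.pullback i).obj A) :=
      fun hA => Groth.L18.Ample.isInvertible_pullback i hA
    have e : ∀ A B : (Sq k C).Modules, PicF.IsInvertible A → PicF.IsInvertible B →
        Curv2.deg k C ((Scheme.Modules.pullback i).obj (CohB1.tensorMod A B)) 1 =
          Curv2.deg k C ((Scheme.Modules.pullback i).obj A) 1 + Curv2.deg k C ((Scheme.Modules.pullback i).obj B) 1 :=
      fun A B hA hB => by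
        rw [deg_congr k (Groth.L29.DC.PullTensor.pullTensor i A B).symm,
          Groth.L21.Duality.deg_tensor hdim (hp hA) (hp hB)]
    have eD := e ND ID hND hID
    have eS := e N IS hN hIS
    rw [deg_congr k ((Scheme.Modules.pullback i).mapIso iD ≪≫ Groth.L29.LocFree.pullbackUnitIso i),
      deg_structure'] at eD
    rw [deg_congr k ((Scheme.Modules.pullback i).mapIso iS ≪≫ Groth.L29.LocFree.pullbackUnitIso i),
      deg_structure'] at eS
    rw [e M1 IS hM1 hIS, e F ID hF' hID]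
    linarith
  have hdL : Curv2.deg k C (pencil κ) 1 = 2 := deg_pencil hdim hκ hκ2
  obtain ⟨t⟩ := nonempty_iso_of_slices hdim hM2 φ₂ hφ₂0
    (fun x hx => degM _ ((deg_sliceFst_box hdim x hx hL (pencil κ)).trans hdL)
      (deg_sliceFst_graph hdim x hx (Category.id_comp _) hND ⟨iD⟩)
      (deg_sliceFst_graph hdim x hx hσp hN ⟨iS⟩))
    (fun x hx => degM _ ((deg_sliceSnd_box hdim x hx (pencil κ) hL).trans hdL)
      (by
        rw [deg_sliceSnd_graph hdim x hx (Category.id_comp _) hND ⟨iD⟩,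
          deg_congr k ((Scheme.Modules.pullbackId C).app (ClSub.idealMod x.ker))]
        show -Curv2.deg k C (ClSub.idealMod x.ker) 1 = 1
        rw [(point_ideal hdim x hx).2]
        norm_num)
      (by
        rw [deg_sliceSnd_graph hdim x hx hσp hN ⟨iS⟩,
          deg_pullback_eq hdim hκ hκ2 hσ hσp (point_ideal hdim x hx).1, (point_ideal hdim x hx).2]
        norm_num))
  exact ⟨(tensorUnitLeft _).symm ≪≫ tensorIso t.symm (Iso.refl _) ≪≫ tensorMiddleFour _ _ _ _ ≪≫
    tensorIso (tensorAssoc F ID ND ≪≫ tensorIso (Iso.refl F) (tensorComm _ _ ≪≫ iD) ≪≫ tensorUnitRight F)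
      (tensorComm _ _ ≪≫ iS) ≪≫ tensorUnitRight F⟩

end Main

end Groth.L12.HypSq
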