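import Groth.Agent.L21.Duality.Main
import Groth.Agent.L21.Duality.Pencils
import Groth.Agent.L21.Duality.Deg
import Groth.Agent.L21.Duality.CliffordEquality
import Groth.Agent.L21.P1.DoubleCoverApply
import Groth.Agent.L21.P1.PullTwist
import Groth.Agent.L21.P1.FuncField
import Groth.Agent.L21.Curve.NormalConnected
import Groth.Agent.L21.Disc.HurwitzOmega
import Groth.Agent.L21.CurveFlat
import Groth.Agent.L22.CurveDeg.Maps
import Groth.Agent.L22.CurveDeg.NonSpecial
import Groth.Agent.L27.Deg.PushRank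
import Groth.Agent.S7640
import Groth.Agent.L22.CurveDeg.Det.Main
import Mathlib.AlgebraicGeometry.Morphisms.FlatRank

/-! Hyperelliptic curves: the pencil, its powers, the differentials and the involution. -/

set_option autoImplicit false
set_option linter.style.haveILetI false
set_option linter.unusedSectionVars false
set_option backward.isDefEq.respectTransparency false

universe u

open CategoryTheory CategoryTheory.Limits AlgebraicGeometry TopologicalSpace Opposite

noncomputable section

namespace Groth.L12.HypSq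

open Groth.L21.RR (h)
open Groth.L21.P1 (O)

variable {k : Type u} [Field k] {C : Scheme.{u}} [C.Over (Spec (CommRingCat.of k))]
  [IsProper (C ↘ Spec (CommRingCat.of k))] [Smooth (C ↘ Spec (CommRingCat.of k))] [ConnectedSpace ↥C]

include k in
theorem isIntegral : IsIntegral C := by
  haveI := Groth.L21.RR.isNoetherian_of_proper (X := C) k
  exact Groth.L21.NormalTotal.isIntegral_of_connected fun x =>
    Groth.L21.Smooth.isDomain_stalk (C ↘ Spec (CommRingCat.of k)) x

variable [IsAlgClosed k]

theorem h0_structure : h k 0 (Coh.structureModule C) = 1 :=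
  haveI := isIntegral (k := k) (C := C)
  Groth.L22.CurveDeg.h0_structure_eq_one k

/-- An invertible module of degree zero with a section is trivial. -/
theorem nonempty_iso_of_deg_zero (hdim : topologicalKrullDim ↥C = 1) {M : C.Modules} (hM : PicF.IsInvertible M)
    (hdeg : Curv2.deg k C M 1 = 0) (hsec : h k 0 M ≠ 0) : Nonempty (Coh.structureModule C ≅ M) := by
  haveI := isIntegral (k := k) (C := C)
  haveI : Nontrivial (Coh.HH C M 0) := by
    by_contra hn
    haveI := not_nontrivial_iff_subsingleton.1 hn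
    exact hsec Module.finrank_zero_of_subsingleton
  obtain ⟨φ, hφ⟩ := Groth.L21.RR.exists_hom_ne_zero (L := M)
  obtain ⟨h1, h2⟩ := Groth.L22.CurveDeg.deg_add k hdim.le
    (Groth.L18.Ample.isInvertible_structureModule C) hM hφ
  rw [hdeg, Groth.L22.CurveDeg.deg_structure] at h1
  haveI := h2 (by omega)
  exact ⟨asIso φ⟩

variable (κ : C ⟶ CohB1.ProjSpace 1 k) [IsFinite κ] [Flat κ]

/-- The pencil of the double cover. -/
abbrev pencil : C.Modules := (Scheme.Modules.pullback κ).obj (Twist.twistProjSpace 1 k 1)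

theorem isInvertible_pencil : PicF.IsInvertible (pencil κ) :=
  Groth.L18.Ample.isInvertible_pullback κ (Groth.L16.ProjTwist.isInvertible_twistProjSpace 1 k 1)

theorem isInvertible_pencilPow (r : ℕ) : PicF.IsInvertible (CohB1.tensorPow (pencil κ) r) :=
  Groth.L18.Ample.isInvertible_tensorPow (isInvertible_pencil κ) r

variable {κ} (hdim : topologicalKrullDim ↥C = 1)
  (hκ : κ ≫ CohB1.ProjSpace.toSpec 1 k = (C ↘ Spec (CommRingCat.of k)))
  (hκ2 : ∀ y : ↥(CohB1.ProjSpace 1 k), κ.finrank y = 2)

include hκ hκ2 in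
theorem h_pencilPow (r p : ℕ) : h k p (CohB1.tensorPow (pencil κ) r) =
    h k p (O k (r : ℤ)) + h k p (O k ((r : ℤ) - (Curv2.genus k C + 1))) := by
  haveI := isIntegral (k := k) (C := C)
  obtain ⟨θ⟩ := Groth.L21.P1.exists_iso_push κ hκ (Groth.L21.P1.isFinLocFreeOfRank_push_two κ hκ2) h0_structure
  refine (Groth.L21.P1.h_tensorPow_pullback_twist k κ hκ _ θ r p).trans ?_
  rw [Fin.sum_univ_two]
  congr 2

include hκ hκ2 in
theorem h0_pencilPow {r : ℕ} (hr : r ≤ Curv2.genus k C) : h k 0 (CohB1.tensorPow (pencil κ) r) = r + 1 := by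
  rw [h_pencilPow hκ hκ2, (Groth.L21.P1.h_O k _).1, (Groth.L21.P1.h_O k _).1]
  omega

include hκ hκ2 in
theorem h1_pencilPow (r : ℕ) : h k 1 (CohB1.tensorPow (pencil κ) r) = Curv2.genus k C - r := by
  rw [h_pencilPow hκ hκ2, (Groth.L21.P1.h_O k _).2, (Groth.L21.P1.h_O k _).2]
  omega

include hκ hκ2 hdim in
theorem euler_pencilPow (r : ℕ) :
    Curv2.euler k C (CohB1.tensorPow (pencil κ) r) = 2 * (r : ℤ) + 1 - Curv2.genus k C := by
  haveI := Groth.L21.RR.isNoetherian_of_proper (X := C) k
  rw [Groth.L21.RR.euler_eq k hdim.le, h_pencilPow hκ hκ2, h_pencilPow hκ hκ2, (Groth.L21.P1.h_O k _).1,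
    (Groth.L21.P1.h_O k _).1, (Groth.L21.P1.h_O k _).2, (Groth.L21.P1.h_O k _).2]
  push_cast
  omega

include hdim in
theorem euler_structure : Curv2.euler k C (Coh.structureModule C) = 1 - (Curv2.genus k C : ℤ) := by
  haveI := Groth.L21.RR.isNoetherian_of_proper (X := C) k
  rw [Groth.L21.RR.euler_eq k hdim.le, h0_structure]
  rfl

include hκ hκ2 hdim in
theorem deg_pencilPow (r : ℕ) : Curv2.deg k C (CohB1.tensorPow (pencil κ) r) 1 = 2 * (r : ℤ) := by
  rw [Curv2.deg, euler_pencilPow hdim hκ hκ2, euler_structure hdim]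
  push_cast
  ring

include hκ hκ2 hdim in
theorem deg_pencil : Curv2.deg k C (pencil κ) 1 = 2 := by
  haveI := isIntegral (k := k) (C := C)
  have h1 := deg_pencilPow hdim hκ hκ2 1
  rw [Groth.L21.Duality.deg_tensorPow (k := k) hdim (isInvertible_pencil κ)] at h1
  simpa using h1

include hκ hκ2 hdim in
/-- The differentials are the power `g - 1` of the pencil. -/
theorem nonempty_omega_iso {g : ℕ} (hg : 1 ≤ g) (hgen : Curv2.genus k C = g) :
    Nonempty (Omega.sheaf (C ↘ Spec (CommRingCat.of k)) ≅ CohB1.tensorPow (pencil κ) (g - 1)) := by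
  haveI := isIntegral (k := k) (C := C)
  obtain ⟨N, hN, ⟨e⟩, hN0, -⟩ := Groth.L21.Duality.exists_dual (k := k) hdim (isInvertible_pencilPow κ (g - 1))
  have hΩ := (Groth.L21.Duality.omega_invariants (k := k) (X := C) hdim).2.2 h0_structure
  have hd : Curv2.deg k C N 1 = 0 := by
    have h1 := Groth.L21.Duality.deg_tensor (k := k) hdim hN (isInvertible_pencilPow κ (g - 1))
    rw [deg_pencilPow hdim hκ hκ2, Curv2.deg,
      Groth.L21.RR.euler_congr k e, ← Curv2.deg.eq_def, hΩ, hgen] at h1
    omega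
  obtain ⟨i⟩ := nonempty_iso_of_deg_zero hdim hN hd (by rw [hN0, h1_pencilPow hκ hκ2, hgen]; omega)
  exact ⟨e.symm ≪≫ Groth.L00.Tensor.tensorIso i.symm (Iso.refl _) ≪≫ Groth.L00.Tensor.tensorUnitLeft _⟩

variable {σ : C ⟶ C} (hσ : σ ≫ κ = κ)

include hσ in
/-- The involution fixes the pencil. -/
theorem nonempty_pullback_pencil : Nonempty ((Scheme.Modules.pullback σ).obj (pencil κ) ≅ pencil κ) :=
  ⟨(Scheme.Modules.pullbackComp σ κ).app _ ≪≫ (Scheme.Modules.pullbackCongr hσ).app _⟩

include hσ hκ hκ2 hdim in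
/-- An endomorphism commuting with the double cover is an automorphism. -/
theorem isIso_of_comp_eq (hσp : σ ≫ (C ↘ Spec (CommRingCat.of k)) = (C ↘ Spec (CommRingCat.of k))) :
    IsIso σ := by
  haveI := isIntegral (k := k) (C := C)
  haveI := Groth.L21.RR.isNoetherian_of_proper (X := C) k
  haveI hf : IsFinite σ := by
    haveI : IsFinite (σ ≫ κ) := by rw [hσ]; infer_instance
    exact IsFinite.of_comp σ κ
  have hκη : κ (genericPoint C) = genericPoint (CohB1.ProjSpace 1 k) := Groth.L21.P1.map_genericPoint κ hdim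
  have hση : σ (genericPoint C) = genericPoint C := by
    refine Groth.L21.RR.eq_genericPoint_of_not_isClosed hdim.le fun hcl => ?_
    have h2 := κ.isClosedMap _ hcl
    rw [Set.image_singleton, ← Scheme.Hom.comp_apply, hσ] at h2
    have h3 : κ (genericPoint C) = _ := hκη
    rw [h3] at h2
    exact Groth.L21.RR.ne_genericPoint_of_isClosed Groth.L21.P1.topologicalKrullDim_eq h2 rfl
  have hn : ∀ x : C, IsDomain (C.presheaf.stalk x) ∧ IsIntegrallyClosed (C.presheaf.stalk x) := fun x =>
    ⟨Groth.L21.Smooth.isDomain_stalk (C ↘ Spec (CommRingCat.of k)) x,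
      Groth.L21.Smooth.isIntegrallyClosed_stalk (C ↘ Spec (CommRingCat.of k)) x⟩
  have hres : σ.residueDegree (genericPoint C) = 1 := by
    have h1 := Groth.Agent.S7640.result k C C hdim hdim σ hσp hση 1 (pencil κ)
      (Groth.L22.CurveDeg.Det.isFinLocFreeOfRank_one_of_isInvertible (isInvertible_pencil κ))
    obtain ⟨e⟩ := nonempty_pullback_pencil (κ := κ) hσ
    rw [Curv2.deg, Groth.L21.RR.euler_congr k e, ← Curv2.deg.eq_def, deg_pencil hdim hκ hκ2] at h1
    omega
  haveI : Flat σ := Groth.L21.flat_of_nonconstant hdim.le hn σ (by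
    obtain ⟨x, -, hx⟩ := (isClosed_univ (X := C)).exists_closed_singleton Set.univ_nonempty
    refine ⟨_, ⟨genericPoint C, rfl⟩, _, ⟨x, rfl⟩, fun hh => ?_⟩
    have h2 := σ.isClosedMap _ hx
    rw [Set.image_singleton, ← hh, hση] at h2
    exact Groth.L21.RR.ne_genericPoint_of_isClosed hdim h2 rfl)
  haveI : LocallyOfFinitePresentation σ := inferInstance
  obtain ⟨n, hn'⟩ := Groth.L21.Disc.exists_rank_push σ
  obtain rfl : n = 1 := by
    rw [Groth.L21.Disc.residueDegree_genericPoint σ hση] at hres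
    refine (Groth.L21.Disc.finrank_functionField σ hn hση ?_ hn').symm.trans hres
    letI := ((C.presheaf.stalkSpecializes (specializes_of_eq hση) ≫ σ.stalkMap (genericPoint C)).hom).toAlgebra
    refine ⟨fun x => ?_⟩
    have hx : x ∈ (⊥ : Subalgebra C.functionField C.functionField) := by
      rw [Subalgebra.bot_eq_top_of_finrank_eq_one hres]
      trivial
    obtain ⟨a, rfl⟩ := Algebra.mem_bot.1 hx
    exact isSeparable_algebraMap a
  rw [Scheme.Hom.isIso_iff_finrank_eq]
  funext y
  obtain ⟨U, hy, ⟨e⟩⟩ := hn' y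
  exact Groth.L27.Deg.finrank_eq_of_free_nhd σ e hy

end Groth.L12.HypSq
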