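import Groth.Agent.L12.VBLift.Small
import Groth.Agent.L17.ClosedPush

/-! Ideals of sections: transport along isomorphisms and the conormal module of a graph. -/

set_option autoImplicit false
set_option linter.style.haveILetI false
set_option linter.unusedSectionVars false
set_option backward.isDefEq.respectTransparency false
set_option backward.isDefEq.respectTransparency.types false

universe u

open CategoryTheory CategoryTheory.Limits AlgebraicGeometry TopologicalSpace Opposite

noncomputable section

namespace Groth.L12.HypSq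

variable {Z X Y : Scheme.{u}}

theorem unitToPush_comp (g : Z ⟶ X) (Φ : X ⟶ Y) :
    ClSub.unitToPush Φ ≫ (Scheme.Modules.pushforward Φ).map (ClSub.unitToPush g) ≫
      (Scheme.Modules.pushforwardComp g Φ).hom.app (Coh.structureModule Z) = ClSub.unitToPush (g ≫ Φ) := by
  refine Scheme.Modules.hom_ext _ _ fun V => ?_
  ext b
  exact rfl

theorem isIso_unitToPush (Φ : X ⟶ Y) [IsIso Φ] : IsIso (ClSub.unitToPush Φ) := by
  refine Groth.L17.BC.Classes.isIso_of_affine _ fun y => ⟨⊤, trivial, fun V _ _ => ?_⟩
  exact (ConcreteCategory.bijective_of_isIso (Φ.app V))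

/-- Composition with an isomorphism does not change the kernel of restriction. -/
def kernelPushIso (g : Z ⟶ X) (Φ : X ⟶ Y) [IsIso Φ] :
    (Scheme.Modules.pushforward Φ).obj (kernel (ClSub.unitToPush g)) ≅ kernel (ClSub.unitToPush (g ≫ Φ)) :=
  haveI := isIso_unitToPush Φ
  haveI : (Scheme.Modules.pushforward Φ).IsRightAdjoint :=
    (Scheme.Modules.pullbackPushforwardAdjunction Φ).isRightAdjoint
  PreservesKernel.iso (Scheme.Modules.pushforward Φ) (ClSub.unitToPush g) ≪≫
    kernel.mapIso _ _ (asIso (ClSub.unitToPush Φ)).symm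
      ((Scheme.Modules.pushforwardComp g Φ).app (Coh.structureModule Z)) (by
        rw [Iso.symm_hom, asIso_inv, IsIso.eq_inv_comp]
        exact unitToPush_comp g Φ)

theorem nonempty_kernel_comp_iso (e : Z ⟶ X) [IsIso e] (ι : X ⟶ Y) :
    Nonempty (kernel (ClSub.unitToPush (e ≫ ι)) ≅ kernel (ClSub.unitToPush ι)) := by
  haveI := isIso_unitToPush e
  exact ⟨kernelIsoOfEq (unitToPush_comp e ι).symm ≪≫ kernelCompMono (ClSub.unitToPush ι)
    ((Scheme.Modules.pushforward ι).map (ClSub.unitToPush e) ≫
      (Scheme.Modules.pushforwardComp e ι).hom.app (Coh.structureModule Z))⟩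

/-- The ideal of a closed immersion is the kernel of restriction. -/
theorem nonempty_kernel_iso_idealMod (j : Z ⟶ X) [IsClosedImmersion j] :
    Nonempty (kernel (ClSub.unitToPush j) ≅ ClSub.idealMod j.ker) := by
  have key := nonempty_kernel_comp_iso j.toImage j.imageι
  rw [Scheme.Hom.toImage_imageι] at key
  exact key

/-- The conormal module of a closed immersion composed with an isomorphism. -/
theorem nonempty_conormal_comp_iso (g : Z ⟶ X) [IsClosedImmersion g] (Φ : X ⟶ Y) [IsIso Φ] :
    Nonempty (Omega.conormal (g ≫ Φ) ≅ Omega.conormal g) := by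
  obtain ⟨a⟩ := nonempty_kernel_iso_idealMod g
  obtain ⟨b⟩ := nonempty_kernel_iso_idealMod (g ≫ Φ)
  haveI := Groth.L17.ClosedPush.isIso_counit Φ
  exact ⟨(Scheme.Modules.pullback (g ≫ Φ)).mapIso (b.symm ≪≫ (kernelPushIso g Φ).symm) ≪≫
    ((Scheme.Modules.pullbackComp g Φ).symm.app _) ≪≫
    (Scheme.Modules.pullback g).mapIso
      (asIso ((Scheme.Modules.pullbackPushforwardAdjunction Φ).counit.app _) ≪≫ a)⟩

variable {C S : Scheme.{u}} {p : C ⟶ S} [IsSeparated p] {f : C ⟶ C}

/-- The automorphism of the square induced by an automorphism of the second factor. -/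
theorem nonempty_conormal_graph_iso [IsIso f] (hf : f ≫ p = p) :
    Nonempty (Omega.conormal (pullback.lift (𝟙 C) f ((Category.id_comp p).trans hf.symm)) ≅ Omega.sheaf p) := by
  let Φ : pullback p p ⟶ pullback p p := pullback.map p p p p (𝟙 C) f (𝟙 S)
    (by simp) (by simp [hf])
  haveI : IsIso Φ := by infer_instance
  have e : pullback.diagonal p ≫ Φ = pullback.lift (𝟙 C) f ((Category.id_comp p).trans hf.symm) := by
    apply pullback.hom_ext
    · simp [Φ]
    · simp [Φ]
  rw [← e]
  exact nonempty_conormal_comp_iso _ _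

end Groth.L12.HypSq
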