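import Groth.Agent.L12.HypSq.Surface

/-! Twists of the exterior powers of the pencil by the graph of the hyperelliptic involution. -/

set_option autoImplicit false
set_option linter.style.haveILetI false
set_option linter.unusedSectionVars false
set_option backward.isDefEq.respectTransparency false
set_option backward.isDefEq.respectTransparency.types false

universe u

open CategoryTheory CategoryTheory.Limits AlgebraicGeometry TopologicalSpace Opposite

noncomputable section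

namespace Groth.L12.HypSq

open Groth.L21.RR (h hk)
open Groth.L00.Tensor

variable {k : Type u} [Field k] {C : Scheme.{u}} [C.Over (Spec (CommRingCat.of k))]
  [IsProper (C ↘ Spec (CommRingCat.of k))] [Smooth (C ↘ Spec (CommRingCat.of k))] [ConnectedSpace ↥C]
  [IsAlgClosed k] (hdim : topologicalKrullDim ↥C = 1)
  {κ : C ⟶ CohB1.ProjSpace 1 k} [IsFinite κ] [Flat κ]
  (hκ : κ ≫ CohB1.ProjSpace.toSpec 1 k = (C ↘ Spec (CommRingCat.of k)))
  (hκ2 : ∀ y : ↥(CohB1.ProjSpace 1 k), κ.finrank y = 2)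

/-- The class of the multiple `m` of the sum of the two fibres. -/
abbrev boxPow (κ : C ⟶ CohB1.ProjSpace 1 k) (m : ℕ) : (Sq k C).Modules :=
  box (k := k) (CohB1.tensorPow (pencil κ) m) (CohB1.tensorPow (pencil κ) m)

theorem isInvertible_boxPow (m : ℕ) : PicF.IsInvertible (boxPow κ m) :=
  isInvertible_box (isInvertible_pencilPow κ m) (isInvertible_pencilPow κ m)

include hκ hκ2 in
theorem subsingleton_boxPow {m : ℕ} (hm : Curv2.genus k C ≤ m) (hdim : topologicalKrullDim ↥C = 1) :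
    Subsingleton (Coh.HH (Sq k C) (boxPow κ m) 1) ∧ Subsingleton (Coh.HH (Sq k C) (boxPow κ m) 2) := by
  have hL := isInvertible_pencilPow κ m
  have h1 : h k 1 (CohB1.tensorPow (pencil κ) m) = 0 := by rw [h1_pencilPow hκ hκ2]; omega
  exact ⟨subsingleton_of_h (isInvertible_boxPow m) (by rw [h1_box hL hL, h1, Nat.mul_zero, Nat.zero_mul]),
    subsingleton_of_h (isInvertible_boxPow m) (by rw [h2_box hdim hL hL, h1, Nat.mul_zero])⟩

variable {σ : C ⟶ C} (hσ : σ ≫ κ = κ)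
  (hσp : σ ≫ (C ↘ Spec (CommRingCat.of k)) = C ↘ Spec (CommRingCat.of k))

include hσ in
theorem nonempty_pullback_pencilPow (m : ℕ) :
    Nonempty ((Scheme.Modules.pullback σ).obj (CohB1.tensorPow (pencil κ) m) ≅
      CohB1.tensorPow (pencil κ) m) := by
  obtain ⟨e⟩ := nonempty_pullback_pencil (κ := κ) hσ
  exact ⟨Groth.L18.Ample.pullPow _ _ _ ≪≫ tensorPowIso e m⟩

variable {N : (Sq k C).Modules} (hN : PicF.IsInvertible N)
  (hNinv : ClSub.IsInverseOf N (ClSub.idealMod (graph hσp).ker))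

theorem isInvertible_tw_boxPow (hN : PicF.IsInvertible N) (m r : ℕ) :
    PicF.IsInvertible (tw (boxPow κ m) N r) :=
  isInvertible_tw (isInvertible_boxPow m) hN r

include hdim hκ hκ2 hσ hN hNinv in
theorem deg_restrict (m r : ℕ) :
    Curv2.deg k C ((Scheme.Modules.pullback (graph hσp)).obj (tw (boxPow κ m) N r)) 1 =
      4 * (m : ℤ) - 2 * ((Curv2.genus k C : ℤ) - 1) * r := by
  haveI := isIso_of_comp_eq hdim hκ hκ2 hσ hσp
  obtain ⟨e⟩ := nonempty_pullback_pencilPow hσ m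
  rw [deg_pullback_tw hσp hN hNinv hdim (isInvertible_pencilPow κ m) (isInvertible_pencilPow κ m),
    Groth.L21.RR.deg_congr k e, deg_pencilPow hdim hκ hκ2]
  ring

include hdim hκ hκ2 hσ hN hNinv in
/-- The Euler characteristic of a twist by a multiple of the graph of the involution. -/
theorem euler_tw_boxPow (m r : ℕ) :
    Curv2.euler k (Sq k C) (tw (boxPow κ m) N r) =
      (2 * (m : ℤ) - ((Curv2.genus k C : ℤ) - 1)) ^ 2 + 4 * (m : ℤ) * r -
        ((Curv2.genus k C : ℤ) - 1) * r * (r + 2) := by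
  haveI := isIso_of_comp_eq hdim hκ hκ2 hσ hσp
  obtain ⟨e⟩ := nonempty_pullback_pencilPow hσ m
  rw [euler_tw hσp hN hNinv hdim (isInvertible_pencilPow κ m) (isInvertible_pencilPow κ m),
    Groth.L21.RR.deg_congr k e, deg_pencilPow hdim hκ hκ2, euler_pencilPow hdim hκ hκ2]
  ring

include hdim hκ hκ2 hσ hNinv in
/-- The restriction of the class to the graph. -/
theorem nonempty_restrict_iso {g : ℕ} (hg : 1 ≤ g) (hgen : Curv2.genus k C = g) {m r s : ℕ}
    (hs : s + (g - 1) * r = 2 * m) :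
    Nonempty ((Scheme.Modules.pullback (graph hσp)).obj (tw (boxPow κ m) N r) ≅
      CohB1.tensorPow (pencil κ) s) := by
  haveI := isIso_of_comp_eq hdim hκ hκ2 hσ hσp
  let L := pencil κ
  let M := (Scheme.Modules.pullback (graph hσp)).obj N
  obtain ⟨e⟩ := nonempty_pullback_tw hσp (boxPow κ m) N r
  obtain ⟨e'⟩ := nonempty_pullback_box hσp (CohB1.tensorPow L m) (CohB1.tensorPow L m)
  obtain ⟨eσ⟩ := nonempty_pullback_pencilPow (k := k) hσ m
  obtain ⟨n⟩ := nonempty_normal hσp hNinv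
  obtain ⟨o⟩ := nonempty_omega_iso hdim hκ hκ2 hg hgen
  let u : CohB1.tensorMod (CohB1.tensorPow M r) (CohB1.tensorPow L ((g - 1) * r)) ≅ Coh.structureModule C :=
    tensorIso (Iso.refl _) (tensorPowMul L (g - 1) r).symm ≪≫ (tensorPowTensor M _ r).symm ≪≫
      tensorPowIso (tensorIso (Iso.refl M) o.symm ≪≫ n) r ≪≫ tensorPowUnit C r
  exact ⟨e ≪≫ tensorIso (e' ≪≫ tensorIso (Iso.refl _) eσ ≪≫ tensorPowAdd L m m ≪≫
      eqToIso (congrArg (CohB1.tensorPow L) (show m + m = s + (g - 1) * r by omega)) ≪≫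
      (tensorPowAdd L s ((g - 1) * r)).symm) (Iso.refl _) ≪≫
    tensorAssoc _ _ _ ≪≫ tensorIso (Iso.refl _) (tensorComm _ _ ≪≫ u) ≪≫ tensorUnitRight _⟩

include hdim hκ hκ2 hσ hN hNinv in
/-- A class of negative degree on the graph has no sections. -/
theorem h0_restrict_eq_zero {m r : ℕ} (hneg : 2 * (m : ℤ) < ((Curv2.genus k C : ℤ) - 1) * r) :
    h k 0 ((Scheme.Modules.pullback (graph hσp)).obj (tw (boxPow κ m) N r)) = 0 := by
  haveI := isIntegral (k := k) (C := C)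
  have hT := Groth.L18.Ample.isInvertible_pullback (graph hσp) (isInvertible_tw_boxPow (κ := κ) hN m r)
  by_contra h0
  haveI : Nontrivial (Coh.HH C ((Scheme.Modules.pullback (graph hσp)).obj (tw (boxPow κ m) N r)) 0) := by
    by_contra hn
    haveI := not_nontrivial_iff_subsingleton.1 hn
    exact h0 Module.finrank_zero_of_subsingleton
  obtain ⟨φ, hφ⟩ := Groth.L21.RR.exists_hom_ne_zero (L := (Scheme.Modules.pullback (graph hσp)).obj (tw (boxPow κ m) N r))
  obtain ⟨h1, -⟩ := Groth.L22.CurveDeg.deg_add k hdim.le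
    (Groth.L18.Ample.isInvertible_structureModule C) hT hφ
  rw [deg_restrict hdim hκ hκ2 hσ hσp hN hNinv, Groth.L22.CurveDeg.deg_structure] at h1
  linarith

include hdim hκ hκ2 hσ hN hNinv in
theorem subsingleton_h2 {m : ℕ} (hm : Curv2.genus k C ≤ m) :
    ∀ r : ℕ, Subsingleton (Coh.HH (Sq k C) (tw (boxPow κ m) N r) 2)
  | 0 => subsingleton_of_h (isInvertible_tw_boxPow hN m 0) <|
    (Groth.L21.RR.h_congr k (tensorUnitRight (boxPow κ m)) 2).trans <|
      Groth.L21.RR.h_eq_zero_of_subsingleton k (subsingleton_boxPow hκ hκ2 hm hdim).2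
  | r + 1 => by
    obtain ⟨e⟩ := nonempty_tw_succ hσp hNinv (boxPow κ m) r
    haveI := Groth.L21.RR.isNoetherian_of_proper (X := C) k
    exact subsingleton_step (k := k) (graph hσp) (isInvertible_tw_boxPow hN m (r + 1)) (graph_over hσp) e 2
      (subsingleton_h2 hm r) (Groth.L22.Inter.subsingleton_HH_of_dim (d := 1) (by rw [hdim]; rfl) _ one_lt_two)

include hdim hκ hκ2 hσ hN hNinv in
theorem subsingleton_h1 {g : ℕ} (hg : 1 ≤ g) (hgen : Curv2.genus k C = g) {m : ℕ} (hm : g ≤ m) :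
    ∀ r : ℕ, ((g : ℤ) - 1) * (r + 1) < 2 * m → Subsingleton (Coh.HH (Sq k C) (tw (boxPow κ m) N r) 1)
  | 0, _ => subsingleton_of_h (isInvertible_tw_boxPow hN m 0) <|
    (Groth.L21.RR.h_congr k (tensorUnitRight (boxPow κ m)) 1).trans <|
      Groth.L21.RR.h_eq_zero_of_subsingleton k (subsingleton_boxPow hκ hκ2 (hgen.trans_le hm) hdim).1
  | r + 1, hr => by
    push_cast at hr
    obtain ⟨e⟩ := nonempty_tw_succ hσp hNinv (boxPow κ m) r
    have h1 := subsingleton_h1 hg hgen hm r (by nlinarith)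
    obtain ⟨s, hs⟩ : ∃ s : ℕ, s + (g - 1) * (r + 1) = 2 * m := ⟨2 * m - (g - 1) * (r + 1), by
      refine Nat.sub_add_cancel ?_
      zify [hg]
      nlinarith⟩
    obtain ⟨i⟩ := nonempty_restrict_iso hdim hκ hκ2 hσ hσp hNinv hg hgen hs
    refine subsingleton_step (k := k) (graph hσp) (isInvertible_tw_boxPow hN m (r + 1)) (graph_over hσp) e 1 h1 ?_
    haveI := Groth.L21.RR.isNoetherian_of_proper (X := C) k
    haveI := Groth.L21.RR.finite_HH' k (Groth.L16.ProperFinite.isCoh_of_isInvertible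
      (Groth.L18.Ample.isInvertible_pullback (graph hσp) (isInvertible_tw_boxPow (κ := κ) hN m (r + 1)))) 1
    refine Module.finrank_zero_iff.1 ((Groth.L21.RR.h_congr k i 1).trans ?_)
    rw [h1_pencilPow hκ hκ2, hgen]
    zify [hg] at hs
    have hgs : g ≤ s := by exact_mod_cast (show (g : ℤ) ≤ (s : ℤ) by nlinarith)
    omega

include hdim hκ hκ2 hσ hN hNinv in
theorem h0_tw {g : ℕ} (hg : 1 ≤ g) (hgen : Curv2.genus k C = g) {m r : ℕ} (hm : g ≤ m)
    (hr : ((g : ℤ) - 1) * (r + 1) < 2 * m) :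
    (h k 0 (tw (boxPow κ m) N r) : ℤ) =
      (2 * (m : ℤ) - ((g : ℤ) - 1)) ^ 2 + 4 * (m : ℤ) * r - ((g : ℤ) - 1) * r * (r + 2) := by
  have e := euler_tw_boxPow hdim hκ hκ2 hσ hσp hN hNinv m r
  rw [euler_sq hdim, hgen,
    Groth.L21.RR.h_eq_zero_of_subsingleton k (subsingleton_h1 hdim hκ hκ2 hσ hσp hN hNinv hg hgen hm r hr),
    Groth.L21.RR.h_eq_zero_of_subsingleton k
      (subsingleton_h2 hdim hκ hκ2 hσ hσp hN hNinv (hgen.trans_le hm) r)] at e
  push_cast at e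
  linarith

include hdim hκ hκ2 hσ hN hNinv in
theorem h0_tw_succ {g : ℕ} (hg : 1 ≤ g) (hgen : Curv2.genus k C = g) {m r s : ℕ} (hm : g ≤ m) (hs0 : 0 < s)
    (hs : s + (g - 1) * (r + 1) = 2 * m) :
    h k 0 (tw (boxPow κ m) N (r + 1)) =
      h k 0 (tw (boxPow κ m) N r) + h k 0 (CohB1.tensorPow (pencil κ) s) := by
  obtain ⟨e⟩ := nonempty_tw_succ hσp hNinv (boxPow κ m) r
  obtain ⟨i⟩ := nonempty_restrict_iso hdim hκ hκ2 hσ hσp hNinv hg hgen hs
  rw [← Groth.L21.RR.h_congr k i 0]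
  refine h0_step (k := k) (graph hσp) (isInvertible_tw_boxPow hN m (r + 1)) (graph_over hσp)
    (isInvertible_tw_boxPow hN m r) e (subsingleton_h1 hdim hκ hκ2 hσ hσp hN hNinv hg hgen hm r ?_)
  zify [hg] at hs
  omega

include hdim hκ hκ2 hσ hN hNinv in
theorem h0_tw_succ_eq {g : ℕ} (hgen : Curv2.genus k C = g) {m r : ℕ}
    (hneg : 2 * (m : ℤ) < ((g : ℤ) - 1) * (r + 1)) :
    h k 0 (tw (boxPow κ m) N (r + 1)) = h k 0 (tw (boxPow κ m) N r) := by
  obtain ⟨e⟩ := nonempty_tw_succ hσp hNinv (boxPow κ m) r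
  exact h0_step_eq (k := k) (graph hσp) (isInvertible_tw_boxPow hN m (r + 1)) (graph_over hσp)
    (isInvertible_tw_boxPow hN m r) e
    (h0_restrict_eq_zero hdim hκ hκ2 hσ hσp hN hNinv (by rw [hgen]; push_cast; exact hneg))

include hdim hκ hκ2 hσ hN hNinv in
/-- Sections in the boundary range. -/
theorem h0_tw_boundary {g : ℕ} (hg : 1 ≤ g) (hgen : Curv2.genus k C = g) {m r : ℕ} (hm : g ≤ m)
    (hpos : ((g : ℤ) - 1) * r < 2 * m) (hle : 2 * (m : ℤ) ≤ ((g : ℤ) - 1) * (r + 1)) :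
    (h k 0 (tw (boxPow κ m) N r) : ℤ) = (2 * (m : ℤ) - ((g : ℤ) - 1)) ^ 2 + 4 * (m : ℤ) * r -
      ((g : ℤ) - 1) * r * (r + 1) - 2 * m + g := by
  rcases r with - | r
  · simp at hle
    omega
  · push_cast at hpos hle ⊢
    obtain ⟨s, hs⟩ : ∃ s : ℕ, s + (g - 1) * (r + 1) = 2 * m := ⟨2 * m - (g - 1) * (r + 1), by
      refine Nat.sub_add_cancel ?_
      zify [hg]
      omega⟩
    have hsz : (s : ℤ) + ((g : ℤ) - 1) * (r + 1) = 2 * m := by zify [hg] at hs; linarith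
    have hs0 : 0 < s := by omega
    have hsg : s ≤ Curv2.genus k C := by
      rw [hgen]
      exact_mod_cast (show (s : ℤ) ≤ g by nlinarith)
    rw [h0_tw_succ hdim hκ hκ2 hσ hσp hN hNinv hg hgen hm hs0 hs, h0_pencilPow hκ hκ2 hsg]
    push_cast
    rw [h0_tw hdim hκ hκ2 hσ hσp hN hNinv hg hgen hm hpos, show (s : ℤ) = 2 * m - ((g : ℤ) - 1) * (r + 1) by linarith]
    ring

include hdim hκ hκ2 hσ hN hNinv in
theorem h1_tw_boundary {g : ℕ} (hg : 1 ≤ g) (hgen : Curv2.genus k C = g) {m r : ℕ} (hm : g ≤ m)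
    (hpos : ((g : ℤ) - 1) * r < 2 * m) (hle : 2 * (m : ℤ) ≤ ((g : ℤ) - 1) * (r + 1)) :
    (h k 1 (tw (boxPow κ m) N r) : ℤ) = (g : ℤ) - (2 * (m : ℤ) - ((g : ℤ) - 1) * r) := by
  have e := euler_tw_boxPow hdim hκ hκ2 hσ hσp hN hNinv m r
  rw [euler_sq hdim, hgen, h0_tw_boundary hdim hκ hκ2 hσ hσp hN hNinv hg hgen hm hpos hle,
    Groth.L21.RR.h_eq_zero_of_subsingleton k
      (subsingleton_h2 hdim hκ hκ2 hσ hσp hN hNinv (hgen.trans_le hm) r)] at e
  push_cast at e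
  linarith

include hdim hκ hκ2 hσ hN hNinv in
theorem h0_tw_stable {g : ℕ} (hg : 1 ≤ g) (hgen : Curv2.genus k C = g) {m : ℕ} (q : ℕ)
    (hq : 2 * m < (g - 1) * (q + 1)) :
    ∀ i : ℕ, h k 0 (tw (boxPow κ m) N (q + i)) = h k 0 (tw (boxPow κ m) N q)
  | 0 => rfl
  | i + 1 => by
    refine (h0_tw_succ_eq hdim hκ hκ2 hσ hσp hN hNinv hgen ?_).trans (h0_tw_stable hg hgen q hq i)
    zify [hg] at hq
    show 2 * (m : ℤ) < ((g : ℤ) - 1) * (((q + i : ℕ) : ℤ) + 1)
    push_cast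
    nlinarith

end Groth.L12.HypSq
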