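import Groth.Agent.L12.HypSq.Inter
import Groth.Agent.L21.RR.IdealTwist
import Groth.Agent.S0017
import Groth.Agent.L29.RelPC.FlatPull

/-! Degrees along the slices of the square of a curve. -/

set_option autoImplicit false
set_option linter.style.haveILetI false
set_option linter.unusedSectionVars false
set_option backward.isDefEq.respectTransparency false
set_option backward.isDefEq.respectTransparency.types false

universe u

open CategoryTheory CategoryTheory.Limits AlgebraicGeometry TopologicalSpace Opposite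

noncomputable section

namespace Groth.L12.HypSq

open Groth.L21.RR (h euler_congr deg_congr)
open Groth.L00.Tensor

variable {k : Type u} [Field k] {C : Scheme.{u}} [C.Over (Spec (CommRingCat.of k))]
  [IsProper (C ↘ Spec (CommRingCat.of k))] [Smooth (C ↘ Spec (CommRingCat.of k))] [ConnectedSpace ↥C]
  [IsAlgClosed k] (hdim : topologicalKrullDim ↥C = 1)
  (x : Spec (CommRingCat.of k) ⟶ C) (hx : x ≫ (C ↘ Spec (CommRingCat.of k)) = 𝟙 (Spec (CommRingCat.of k)))

include hx in
theorem isClosedImmersion_point : IsClosedImmersion x := by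
  haveI : IsClosedImmersion (x ≫ (C ↘ Spec (CommRingCat.of k))) := by rw [hx]; infer_instance
  exact IsClosedImmersion.of_comp x (C ↘ Spec (CommRingCat.of k))

include hdim hx in
/-- The ideal of a rational point is invertible of degree minus one. -/
theorem point_ideal : PicF.IsInvertible (ClSub.idealMod x.ker) ∧ Curv2.deg k C (ClSub.idealMod x.ker) 1 = -1 := by
  haveI := isIntegral (k := k) (C := C)
  haveI := isClosedImmersion_point x hx
  haveI : Subsingleton ↥(Spec (CommRingCat.of k)) := inferInstanceAs (Subsingleton (PrimeSpectrum k))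
  have hI : PicF.IsInvertible (ClSub.idealMod x.ker) := by
    refine Groth.L21.RR.isInvertible_idealMod (k := k) hdim x.ker fun hη => ?_
    rw [Scheme.Hom.support_ker] at hη
    obtain ⟨z, hz⟩ := (x.isClosedEmbedding.isClosed_range.closure_eq.le hη : genericPoint C ∈ Set.range x)
    refine Groth.L21.RR.ne_genericPoint_of_isClosed hdim (z := x z) ?_ hz
    rw [← Set.image_singleton]
    exact x.isClosedMap _ isClosed_singleton
  obtain ⟨A, hA, ⟨e⟩⟩ := Groth.L08.Cube.exists_inverse hI
  refine ⟨hI, ?_⟩
  have h1 := deg_point hdim x hx hA ⟨tensorComm A _ ≪≫ e⟩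
  have h2 := Groth.L21.Duality.deg_tensor (k := k) hdim hI hA
  rw [deg_congr k e, deg_structure', h1] at h2
  linarith

include hx in
theorem nonempty_pullback_point {A : C.Modules} (hA : PicF.IsInvertible A) :
    Nonempty ((Scheme.Modules.pullback x).obj A ≅ Coh.structureModule (Spec (CommRingCat.of k))) := by
  haveI : Subsingleton ↥(Spec (CommRingCat.of k)) := inferInstanceAs (Subsingleton (PrimeSpectrum k))
  haveI : Nonempty ↥(Spec (CommRingCat.of k)) := inferInstanceAs (Nonempty (PrimeSpectrum k))
  obtain ⟨W, e, hW, he⟩ := Groth.L18.Frame.exists_frame (Groth.L18.Ample.isInvertible_pullback x hA)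
    (Classical.arbitrary _)
  obtain rfl : W = ⊤ := top_le_iff.1 fun y _ => Subsingleton.elim _ y ▸ hW
  exact Groth.L08.Cube.nonempty_iso_of_frame_top he

variable {q : Sq k C ⟶ C} [Flat q] {i : C ⟶ Sq k C} (sq : IsPullback (C ↘ Spec (CommRingCat.of k)) i x q)
  (hi : i ≫ ((Sq k C) ↘ Spec (CommRingCat.of k)) = C ↘ Spec (CommRingCat.of k))

include hdim hx sq hi in
/-- The Euler characteristic on a slice. -/
theorem euler_slice {G : (Sq k C).Modules} (hG : PicF.IsInvertible G) :
    Curv2.euler k C ((Scheme.Modules.pullback i).obj G) = Curv2.euler k (Sq k C) G -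
      Curv2.euler k (Sq k C) (CohB1.tensorMod G ((Scheme.Modules.pullback q).obj (ClSub.idealMod x.ker))) := by
  haveI := isClosedImmersion_point x hx
  haveI : IsClosedImmersion i := MorphismProperty.of_isPullback sq ‹IsClosedImmersion x›
  haveI := Groth.L21.RR.isNoetherian_of_proper (X := Sq k C) k
  haveI := Groth.L21.RR.isNoetherian_of_proper (X := C) k
  haveI : IsLocallyNoetherian (Spec (CommRingCat.of k)) := LocallyOfFiniteType.isLocallyNoetherian x
  obtain ⟨hI, -⟩ := point_ideal hdim x hx
  obtain ⟨a, w, hS⟩ := exists_seq x (Groth.L18.Ample.isInvertible_structureModule C) (tensorUnitLeft (ClSub.idealMod x.ker))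
  haveI := Groth.L29.RelPC.additive_pullback q
  haveI := Groth.L29.RelPC.preservesFiniteLimits_pullback q
  haveI := Groth.L29.RelPC.preservesFiniteColimits_pullback q
  have hS2 := Groth.L16.FrameIso.shortExact_tensor_left (Groth.L21.RR.isFlat_of_isInvertible hG) _
    (hS.map_of_exact (Scheme.Modules.pullback q))
  have hq : Coh.IsCoh ((Scheme.Modules.pullback x).obj (Coh.structureModule C)) :=
    Groth.L16.AffineBC.isCoh_pullback x
      (Groth.L16.ProperFinite.isCoh_of_isInvertible (Groth.L18.Ample.isInvertible_structureModule C))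
  haveI : Coh.IsQCoh ((Scheme.Modules.pullback x).obj (Coh.structureModule C)) := hq.1
  obtain ⟨b⟩ := Groth.Agent.S0017.result x q (C ↘ Spec (CommRingCat.of k)) i sq
    ((Scheme.Modules.pullback x).obj (Coh.structureModule C))
  let u : (Scheme.Modules.pullback (C ↘ Spec (CommRingCat.of k))).obj
      ((Scheme.Modules.pullback x).obj (Coh.structureModule C)) ≅ Coh.structureModule C :=
    (Scheme.Modules.pullback _).mapIso (Groth.L29.LocFree.pullbackUnitIso x) ≪≫ Groth.L29.LocFree.pullbackUnitIso _
  let e2 : CohB1.tensorMod G ((Scheme.Modules.pullback q).obj (Coh.structureModule C)) ≅ G :=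
    tensorIso (Iso.refl G) (Groth.L29.LocFree.pullbackUnitIso q) ≪≫ tensorUnitRight G
  let e3 : CohB1.tensorMod G ((Scheme.Modules.pullback q).obj
      ((Scheme.Modules.pushforward x).obj ((Scheme.Modules.pullback x).obj (Coh.structureModule C)))) ≅
      CohB1.tensorMod G ((Scheme.Modules.pushforward i).obj (Coh.structureModule C)) :=
    tensorIso (Iso.refl G) (b ≪≫ (Scheme.Modules.pushforward i).mapIso u)
  have hc1 : Coh.IsCoh (CohB1.tensorMod G ((Scheme.Modules.pullback q).obj (ClSub.idealMod x.ker))) :=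
    Groth.L16.ProperFinite.isCoh_of_isInvertible
      (Groth.L18.GenLoc.isInvertible_tensor hG (Groth.L18.Ample.isInvertible_pullback q hI))
  have hc3' : Coh.IsCoh ((Scheme.Modules.pushforward i).obj (Coh.structureModule C)) :=
    Groth.L16.CohClosedPush.isCoh_push i
      (Groth.L16.ProperFinite.isCoh_of_isInvertible (Groth.L18.Ample.isInvertible_structureModule C))
  have hc3 : Coh.IsCoh (CohB1.tensorMod G ((Scheme.Modules.pushforward i).obj (Coh.structureModule C))) := by
    haveI : Coh.IsQCoh G := (Groth.L16.ProperFinite.isCoh_of_isInvertible hG).1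
    haveI : Coh.IsQCoh ((Scheme.Modules.pushforward i).obj (Coh.structureModule C)) := hc3'.1
    exact ⟨Groth.L00.Tensor.isQCoh_tensorMod _ _,
      Groth.L00.Tensor.isFT_tensorMod _ _ (Groth.L16.ProperFinite.isCoh_of_isInvertible hG).2 hc3'.2⟩
  have hadd := Groth.L03.Euler.euler_add (k := k) hS2 hc1
    (Groth.L16.ProperFinite.isCoh_of_isInvertible (Groth.L18.GenLoc.isInvertible_tensor hG
      (Groth.L18.Ample.isInvertible_pullback q (Groth.L18.Ample.isInvertible_structureModule C))))
    (Groth.L16.CohSupport.isCoh_of_iso e3.symm hc3)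
  have h3 : Curv2.euler k (Sq k C) (CohB1.tensorMod G ((Scheme.Modules.pushforward i).obj (Coh.structureModule C))) =
      Curv2.euler k C ((Scheme.Modules.pullback i).obj G) :=
    (Groth.L22.CurveDeg.euler_tensor_push k i hi (Groth.L16.Existence.isFinLocFree_of_isInvertible hG) _
      (Groth.L16.ProperFinite.isCoh_of_isInvertible (Groth.L18.Ample.isInvertible_structureModule C)).1).trans
      (euler_congr k (tensorUnitRight _))
  change Curv2.euler k (Sq k C) (CohB1.tensorMod G ((Scheme.Modules.pullback q).obj (Coh.structureModule C))) =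
    Curv2.euler k (Sq k C) (CohB1.tensorMod G ((Scheme.Modules.pullback q).obj (ClSub.idealMod x.ker))) +
      Curv2.euler k (Sq k C) (CohB1.tensorMod G ((Scheme.Modules.pullback q).obj
        ((Scheme.Modules.pushforward x).obj ((Scheme.Modules.pullback x).obj (Coh.structureModule C))))) at hadd
  rw [euler_congr k e2, euler_congr k e3, h3] at hadd
  linarith

omit [Flat q] in
/-- The first slice through a point. -/
abbrev sliceFst : C ⟶ Sq k C :=
  pullback.lift ((C ↘ Spec (CommRingCat.of k)) ≫ x) (𝟙 C) (by rw [Category.assoc, hx, Category.comp_id, Category.id_comp])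

omit [Flat q] in
/-- The second slice through a point. -/
abbrev sliceSnd : C ⟶ Sq k C :=
  pullback.lift (𝟙 C) ((C ↘ Spec (CommRingCat.of k)) ≫ x) (by rw [Category.assoc, hx, Category.comp_id, Category.id_comp])

omit [Flat q] in
theorem isPullback_sliceFst : IsPullback (C ↘ Spec (CommRingCat.of k)) (sliceFst x hx) x
    (pullback.fst (C ↘ Spec (CommRingCat.of k)) (C ↘ Spec (CommRingCat.of k))) := by
  refine IsPullback.of_bot ?_ (pullback.lift_fst _ _ _).symm (IsPullback.of_hasPullback _ _)
  rw [pullback.lift_snd]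
  haveI : IsIso (x ≫ (C ↘ Spec (CommRingCat.of k))) := by rw [hx]; infer_instance
  exact IsPullback.of_vert_isIso ⟨by rw [hx, Category.comp_id, Category.id_comp]⟩

omit [Flat q] in
theorem isPullback_sliceSnd : IsPullback (C ↘ Spec (CommRingCat.of k)) (sliceSnd x hx) x
    (pullback.snd (C ↘ Spec (CommRingCat.of k)) (C ↘ Spec (CommRingCat.of k))) := by
  refine IsPullback.of_bot ?_ (pullback.lift_snd _ _ _).symm (IsPullback.of_hasPullback _ _).flip
  rw [pullback.lift_fst]
  haveI : IsIso (x ≫ (C ↘ Spec (CommRingCat.of k))) := by rw [hx]; infer_instance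
  exact IsPullback.of_vert_isIso ⟨by rw [hx, Category.comp_id, Category.id_comp]⟩

omit [Flat q] in
theorem sliceFst_over : sliceFst x hx ≫ ((Sq k C) ↘ Spec (CommRingCat.of k)) = C ↘ Spec (CommRingCat.of k) := by
  change pullback.lift _ _ _ ≫ pullback.fst _ _ ≫ _ = _
  rw [pullback.lift_fst_assoc, Category.assoc, hx, Category.comp_id]

omit [Flat q] in
theorem sliceSnd_over : sliceSnd x hx ≫ ((Sq k C) ↘ Spec (CommRingCat.of k)) = C ↘ Spec (CommRingCat.of k) := by
  change pullback.lift _ _ _ ≫ pullback.fst _ _ ≫ _ = _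
  rw [pullback.lift_fst_assoc, Category.id_comp]

omit [Flat q] in
include hdim hx in
theorem deg_sliceFst_box {A : C.Modules} (hA : PicF.IsInvertible A) (B : C.Modules) :
    Curv2.deg k C ((Scheme.Modules.pullback (sliceFst x hx)).obj (box (k := k) A B)) 1 = Curv2.deg k C B 1 := by
  obtain ⟨t⟩ := nonempty_pullback_point x hx hA
  exact deg_congr k ((Groth.L29.DC.PullTensor.pullTensor (sliceFst x hx) _ _).symm ≪≫ tensorIso
    ((Scheme.Modules.pullbackComp _ _).app A ≪≫ (Scheme.Modules.pullbackCongr (pullback.lift_fst _ _ _)).app A ≪≫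
      (Scheme.Modules.pullbackComp _ _).symm.app A ≪≫ (Scheme.Modules.pullback _).mapIso t ≪≫
      Groth.L29.LocFree.pullbackUnitIso _)
    ((Scheme.Modules.pullbackComp _ _).app B ≪≫ (Scheme.Modules.pullbackCongr (pullback.lift_snd _ _ _)).app B ≪≫
      (Scheme.Modules.pullbackId C).app B) ≪≫ tensorUnitLeft B) 1

omit [Flat q] in
include hdim hx in
theorem deg_sliceSnd_box (A : C.Modules) {B : C.Modules} (hB : PicF.IsInvertible B) :
    Curv2.deg k C ((Scheme.Modules.pullback (sliceSnd x hx)).obj (box (k := k) A B)) 1 = Curv2.deg k C A 1 := by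
  obtain ⟨t⟩ := nonempty_pullback_point x hx hB
  exact deg_congr k ((Groth.L29.DC.PullTensor.pullTensor (sliceSnd x hx) _ _).symm ≪≫ tensorIso
    ((Scheme.Modules.pullbackComp _ _).app A ≪≫ (Scheme.Modules.pullbackCongr (pullback.lift_fst _ _ _)).app A ≪≫
      (Scheme.Modules.pullbackId C).app A)
    ((Scheme.Modules.pullbackComp _ _).app B ≪≫ (Scheme.Modules.pullbackCongr (pullback.lift_snd _ _ _)).app B ≪≫
      (Scheme.Modules.pullbackComp _ _).symm.app B ≪≫ (Scheme.Modules.pullback _).mapIso t ≪≫
      Groth.L29.LocFree.pullbackUnitIso _) ≪≫ tensorUnitRight A) 1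

variable {f : C ⟶ C} [IsIso f] (hf : f ≫ (C ↘ Spec (CommRingCat.of k)) = C ↘ Spec (CommRingCat.of k))
  {N : (Sq k C).Modules} (hN : PicF.IsInvertible N)
  (hNinv : ClSub.IsInverseOf N (ClSub.idealMod (graph hf).ker))

omit [Flat q] in
include hdim hx hN hNinv in
theorem deg_sliceFst_graph :
    Curv2.deg k C ((Scheme.Modules.pullback (sliceFst x hx)).obj N) 1 = 1 := by
  obtain ⟨hI, hd⟩ := point_ideal hdim x hx
  haveI : Flat (pullback.fst (C ↘ Spec (CommRingCat.of k)) (C ↘ Spec (CommRingCat.of k))) := inferInstance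
  have h1 := euler_slice hdim x hx (isPullback_sliceFst x hx) (sliceFst_over x hx) hN
  have h2 := euler_graphPow hdim hf hN hNinv 1
  rw [euler_congr k (tensorPowOne N)] at h2
  rw [euler_congr k (tensorComm _ _ ≪≫
      (tensorIso (boxFstIso (ClSub.idealMod x.ker)) (tensorPowOne N)).symm :
      _ ≅ tw (box (k := k) (ClSub.idealMod x.ker) (Coh.structureModule C)) N 1),
    euler_tw hf hN hNinv hdim hI (Groth.L18.Ample.isInvertible_structureModule C), deg_pullback_unit, h2,
    euler_eq_deg hdim (ClSub.idealMod x.ker), hd, euler_structure hdim] at h1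
  rw [Curv2.deg, euler_structure hdim]
  push_cast at h1 ⊢
  linarith

omit [Flat q] in
include hdim hx hN hNinv in
theorem deg_sliceSnd_graph :
    Curv2.deg k C ((Scheme.Modules.pullback (sliceSnd x hx)).obj N) 1 =
      - Curv2.deg k C ((Scheme.Modules.pullback f).obj (ClSub.idealMod x.ker)) 1 := by
  obtain ⟨hI, hd⟩ := point_ideal hdim x hx
  haveI : Flat (pullback.snd (C ↘ Spec (CommRingCat.of k)) (C ↘ Spec (CommRingCat.of k))) := inferInstance
  have h1 := euler_slice hdim x hx (isPullback_sliceSnd x hx) (sliceSnd_over x hx) hN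
  have h2 := euler_graphPow hdim hf hN hNinv 1
  rw [euler_congr k (tensorPowOne N)] at h2
  rw [euler_congr k (tensorComm _ _ ≪≫
      (tensorIso (boxSndIso (ClSub.idealMod x.ker)) (tensorPowOne N)).symm :
      _ ≅ tw (box (k := k) (Coh.structureModule C) (ClSub.idealMod x.ker)) N 1),
    euler_tw hf hN hNinv hdim (Groth.L18.Ample.isInvertible_structureModule C) hI, deg_structure', h2,
    euler_eq_deg hdim (ClSub.idealMod x.ker), hd, euler_structure hdim] at h1
  rw [Curv2.deg, euler_structure hdim]
  push_cast at h1 ⊢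
  rw [h1]
  ring

end Groth.L12.HypSq
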