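import Groth.Agent.L12.HypSq.Graph
import Groth.Agent.L16.CohLinear
import Groth.Agent.L16.CohClosedPush
import Groth.Agent.L16.ProperFinite
import Groth.Agent.L03.Euler.Basic
import Groth.Agent.L03.Euler.Push
import Groth.Agent.L21.RR.Coh
import Groth.Agent.L21.RR.Twist

/-! Cohomology of an invertible module against its restriction to a closed subscheme. -/

set_option autoImplicit false
set_option linter.style.haveILetI false
set_option linter.unusedSectionVars false
set_option backward.isDefEq.respectTransparency false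
set_option backward.isDefEq.respectTransparency.types false

universe u

open CategoryTheory CategoryTheory.Limits AlgebraicGeometry TopologicalSpace Opposite

noncomputable section

namespace Groth.L12.HypSq

open Groth.L21.RR (h hk)
open Groth.L16.CohLinear (hmap delta exact_hmap_hmap exact_hmap_delta exact_delta_hmap overLin)

variable {k : Type u} [Field k] {X Z : Scheme.{u}} [X.Over (Spec (CommRingCat.of k))]
  [Z.Over (Spec (CommRingCat.of k))] (j : Z ⟶ X) [IsClosedImmersion j] {G G₁ : X.Modules}
  (hG : PicF.IsInvertible G)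

include hG in
theorem exists_seq (e : CohB1.tensorMod G (ClSub.idealMod j.ker) ≅ G₁) :
    ∃ (a : G₁ ⟶ G) (w : a ≫ VBLift.eta j G = 0), (ShortComplex.mk a (VBLift.eta j G) w).ShortExact := by
  obtain ⟨κ, w, hS, -⟩ := VBLift.exists_restrict_seq_of_closedImmersion j G
    (Groth.L21.RR.isFlat_of_isInvertible hG)
  obtain ⟨i⟩ := nonempty_kernel_iso_idealMod j
  let e' := Groth.L00.Tensor.tensorIso (Iso.refl G) i ≪≫ e
  refine ⟨e'.inv ≫ κ, by rw [Category.assoc, w, comp_zero], ShortComplex.shortExact_of_iso ?_ hS⟩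
  exact ShortComplex.isoMk e' (Iso.refl _) (Iso.refl _) (by simp) (by simp)

variable (hj : j ≫ (X ↘ Spec (CommRingCat.of k)) = Z ↘ Spec (CommRingCat.of k))
  [IsProper (X ↘ Spec (CommRingCat.of k))] [X.IsSeparated]

include hj hG in
theorem h_restrict (p : ℕ) :
    h k p ((Scheme.Modules.pushforward j).obj ((Scheme.Modules.pullback j).obj G)) =
      h k p ((Scheme.Modules.pullback j).obj G) := by
  haveI := Groth.L21.RR.isNoetherian_of_proper (X := X) k
  obtain ⟨e⟩ := Groth.L03.Euler.exists_HH_push_linearEquiv (k := k) j ((Scheme.Modules.pullback j).obj G)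
    (Groth.L16.AffineBC.isCoh_pullback j (Groth.L16.ProperFinite.isCoh_of_isInvertible hG)).1 hj p
  exact e.finrank_eq.symm

variable (hG₁ : PicF.IsInvertible G₁) (e : CohB1.tensorMod G (ClSub.idealMod j.ker) ≅ G₁)

include hj hG in
theorem finite_restrict (p : ℕ) :
    Module.Finite k (Coh.HH X ((Scheme.Modules.pushforward j).obj ((Scheme.Modules.pullback j).obj G)) p) := by
  haveI := Groth.L21.RR.isNoetherian_of_proper (X := X) k
  haveI : IsLocallyNoetherian Z := LocallyOfFiniteType.isLocallyNoetherian j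
  exact Groth.L16.ProperFinite.finite_HH k
    (Groth.L16.CohClosedPush.isCoh_push j (Groth.L16.AffineBC.isCoh_pullback j
      (Groth.L16.ProperFinite.isCoh_of_isInvertible hG))) p

include hj hG hG₁ e in
theorem euler_step : Curv2.euler k X G =
    Curv2.euler k X G₁ + Curv2.euler k Z ((Scheme.Modules.pullback j).obj G) := by
  haveI := Groth.L21.RR.isNoetherian_of_proper (X := X) k
  haveI : IsLocallyNoetherian Z := LocallyOfFiniteType.isLocallyNoetherian j
  obtain ⟨a, w, hS⟩ := exists_seq j hG e
  have hc := Groth.L16.AffineBC.isCoh_pullback j (Groth.L16.ProperFinite.isCoh_of_isInvertible hG)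
  rw [Groth.L03.Euler.euler_add (k := k) hS (Groth.L16.ProperFinite.isCoh_of_isInvertible hG₁)
    (Groth.L16.ProperFinite.isCoh_of_isInvertible hG) (Groth.L16.CohClosedPush.isCoh_push j hc)]
  exact congrArg (_ + ·) (Groth.L03.Euler.euler_push (k := k) j _ hc.1 hj)

include hj hG e in
theorem subsingleton_step (n : ℕ) (h₁ : Subsingleton (Coh.HH X G₁ n))
    (h₂ : Subsingleton (Coh.HH Z ((Scheme.Modules.pullback j).obj G) n)) : Subsingleton (Coh.HH X G n) := by
  obtain ⟨a, w, hS⟩ := exists_seq j hG e
  haveI := finite_restrict (k := k) j hG hj n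
  haveI : Subsingleton (Coh.HH X ((Scheme.Modules.pushforward j).obj ((Scheme.Modules.pullback j).obj G)) n) :=
    Module.finrank_zero_iff.1 ((h_restrict j hG hj n).trans Module.finrank_zero_of_subsingleton)
  refine subsingleton_of_forall_eq 0 fun x => ?_
  obtain ⟨y, rfl⟩ := (exact_hmap_hmap hS n x).1 (Subsingleton.elim _ _)
  rw [@Subsingleton.elim _ h₁ y 0, map_zero]

include hj hG hG₁ e in
theorem h0_step (h₁ : Subsingleton (Coh.HH X G₁ 1)) :
    h k 0 G = h k 0 G₁ + h k 0 ((Scheme.Modules.pullback j).obj G) := by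
  haveI := Groth.L21.RR.isNoetherian_of_proper (X := X) k
  obtain ⟨a, w, hS⟩ := exists_seq j hG e
  haveI := finite_restrict (k := k) j hG hj 0
  haveI := Groth.L16.ProperFinite.finite_HH k (Groth.L16.ProperFinite.isCoh_of_isInvertible hG) 0
  haveI := hS.mono_f
  have hg : Function.Surjective (hk k (VBLift.eta j G) 0) := fun y =>
    (exact_hmap_delta hS 0 y).1 (@Subsingleton.elim _ h₁ _ _)
  have hi : LinearMap.ker (hk k a 0) = ⊥ := LinearMap.ker_eq_bot.2 (Groth.L21.RR.injective_hmap_zero a)
  have r₁ := (hk k (VBLift.eta j G) 0).finrank_range_add_finrank_ker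
  rw [LinearMap.range_eq_top.2 hg, finrank_top,
    LinearMap.exact_iff.1 (show Function.Exact (hk k a 0) (hk k (VBLift.eta j G) 0) from exact_hmap_hmap hS 0),
    LinearMap.finrank_range_of_inj (LinearMap.ker_eq_bot.1 hi)] at r₁
  have h3 := h_restrict j hG hj (k := k) 0
  simp only [h] at h3 ⊢
  omega

include hj hG hG₁ e in
theorem h0_step_eq (h₂ : h k 0 ((Scheme.Modules.pullback j).obj G) = 0) : h k 0 G = h k 0 G₁ := by
  haveI := Groth.L21.RR.isNoetherian_of_proper (X := X) k
  obtain ⟨a, w, hS⟩ := exists_seq j hG e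
  haveI := finite_restrict (k := k) j hG hj 0
  haveI : Subsingleton (Coh.HH X ((Scheme.Modules.pushforward j).obj ((Scheme.Modules.pullback j).obj G)) 0) :=
    Module.finrank_zero_iff.1 ((h_restrict j hG hj 0).trans h₂)
  haveI := hS.mono_f
  refine (LinearEquiv.finrank_eq (LinearEquiv.ofBijective (hk k a 0)
    ⟨Groth.L21.RR.injective_hmap_zero a, fun x => ?_⟩)).symm
  exact (exact_hmap_hmap hS 0 x).1 (Subsingleton.elim _ _)

end Groth.L12.HypSq
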