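import Groth.Agent.L12.HypSq.Step
import Groth.Agent.L12.HypSq.Curve
import Groth.Agent.L22.Inter.Fga
import Groth.Agent.L22.Inter.Push
import Groth.Agent.L08.Cube.Inverse
import Groth.Agent.L00.TensorMod
import Groth.Agent.S4643
import Groth.Agent.S7635

/-! The square of a curve, exterior products of invertible modules, and twists by the class of a graph. -/

set_option autoImplicit false
set_option linter.style.haveILetI false
set_option linter.unusedSectionVars false
set_option backward.isDefEq.respectTransparency false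
set_option backward.isDefEq.respectTransparency.types false

universe u

open CategoryTheory CategoryTheory.Limits AlgebraicGeometry TopologicalSpace Opposite
open scoped TensorProduct

noncomputable section

namespace Groth.L12.HypSq

open Groth.L21.RR (h hk)
open Groth.L00.Tensor

variable (k : Type u) [Field k] (C : Scheme.{u}) [C.Over (Spec (CommRingCat.of k))]

/-- The square of a scheme over a field. -/
abbrev Sq : Scheme.{u} := pullback (C ↘ Spec (CommRingCat.of k)) (C ↘ Spec (CommRingCat.of k))

/-- The structure map of the square, through the first projection. -/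
instance sqOver : (Sq k C).Over (Spec (CommRingCat.of k)) :=
  ⟨pullback.fst (C ↘ Spec (CommRingCat.of k)) (C ↘ Spec (CommRingCat.of k)) ≫ (C ↘ Spec (CommRingCat.of k))⟩

variable {k C}

/-- The exterior product on the square. -/
abbrev box (A B : C.Modules) : (Sq k C).Modules :=
  CohB1.tensorMod
    ((Scheme.Modules.pullback (pullback.fst (C ↘ Spec (CommRingCat.of k)) (C ↘ Spec (CommRingCat.of k)))).obj A)
    ((Scheme.Modules.pullback (pullback.snd (C ↘ Spec (CommRingCat.of k)) (C ↘ Spec (CommRingCat.of k)))).obj B)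

theorem isInvertible_box {A B : C.Modules} (hA : PicF.IsInvertible A) (hB : PicF.IsInvertible B) :
    PicF.IsInvertible (box (k := k) A B) :=
  Groth.L18.GenLoc.isInvertible_tensor (Groth.L18.Ample.isInvertible_pullback _ hA)
    (Groth.L18.Ample.isInvertible_pullback _ hB)

variable [IsProper (C ↘ Spec (CommRingCat.of k))]

instance isProper_sq : IsProper ((Sq k C) ↘ Spec (CommRingCat.of k)) :=
  inferInstanceAs (IsProper
    (pullback.fst (C ↘ Spec (CommRingCat.of k)) (C ↘ Spec (CommRingCat.of k)) ≫ (C ↘ Spec (CommRingCat.of k))))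

instance isSeparated_sq : (Sq k C).IsSeparated :=
  ⟨by
    rw [show terminal.from (Sq k C) = ((Sq k C) ↘ Spec (CommRingCat.of k)) ≫ terminal.from _ from
      terminal.hom_ext _ _]
    infer_instance⟩

theorem dim_sq (hdim : topologicalKrullDim ↥C = 1) : topologicalKrullDim ↥(Sq k C) ≤ (2 : ℕ) := by
  rw [Groth.Agent.S4643.result (C ↘ Spec (CommRingCat.of k)) (C ↘ Spec (CommRingCat.of k)), hdim]
  rfl

theorem subsingleton_sq (hdim : topologicalKrullDim ↥C = 1) (M : (Sq k C).Modules) {n : ℕ} (hn : 2 < n) :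
    Subsingleton (Coh.HH (Sq k C) M n) :=
  haveI := Groth.L21.RR.isNoetherian_of_proper (X := Sq k C) k
  Groth.L22.Inter.subsingleton_HH_of_dim (dim_sq hdim) M hn

theorem h_curve_eq_zero (hdim : topologicalKrullDim ↥C = 1) (M : C.Modules) {n : ℕ} (hn : 2 ≤ n) :
    h k n M = 0 :=
  haveI := Groth.L21.RR.isNoetherian_of_proper (X := C) k
  Groth.L21.RR.h_eq_zero_of_subsingleton k
    (Groth.L22.Inter.subsingleton_HH_of_dim (d := 1) (by rw [hdim]; rfl) M hn)

theorem euler_sq (hdim : topologicalKrullDim ↥C = 1) (M : (Sq k C).Modules) :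
    Curv2.euler k (Sq k C) M = (h k 0 M : ℤ) - h k 1 M + h k 2 M := by
  rw [Groth.L03.Euler.euler_eq_sum (k := k) (N := 3) fun n hn => subsingleton_sq hdim M hn]
  simp only [Finset.sum_range_succ, Finset.sum_range_zero, h]
  ring

/-- The formula of Künneth for dimensions. -/
theorem h_box {A B : C.Modules} (hA : PicF.IsInvertible A) (hB : PicF.IsInvertible B) (n : ℕ) :
    h k n (box (k := k) A B) = ∑ p : Fin (n + 1), h k (p : ℕ) A * h k (n - (p : ℕ)) B := by
  haveI := Groth.L21.RR.isNoetherian_of_proper (X := C) k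
  have hA' := Groth.L16.ProperFinite.isCoh_of_isInvertible hA
  have hB' := Groth.L16.ProperFinite.isCoh_of_isInvertible hB
  obtain ⟨e⟩ := Groth.Agent.S7635.result k C C A hA'.1 B hB'.1 n
  haveI : ∀ q, Module.Finite k (Coh.HH C A q) := Groth.L21.RR.finite_HH' k hA'
  haveI : ∀ q, Module.Finite k (Coh.HH C B q) := Groth.L21.RR.finite_HH' k hB'
  refine e.finrank_eq.symm.trans ?_
  haveI : ∀ p : Fin (n + 1), Module.Free k (Coh.HH C A (p : ℕ) ⊗[k] Coh.HH C B (n - (p : ℕ))) :=
    fun p => Module.Free.of_divisionRing k _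
  haveI : ∀ p : Fin (n + 1), Module.Finite k (Coh.HH C A (p : ℕ) ⊗[k] Coh.HH C B (n - (p : ℕ))) :=
    fun p => Module.Finite.tensorProduct k _ _
  rw [Module.finrank_pi_fintype]
  simp only [Module.finrank_tensorProduct]

theorem h0_box {A B : C.Modules} (hA : PicF.IsInvertible A) (hB : PicF.IsInvertible B) :
    h k 0 (box (k := k) A B) = h k 0 A * h k 0 B := by
  rw [h_box hA hB, Fin.sum_univ_one]
  rfl

theorem h1_box {A B : C.Modules} (hA : PicF.IsInvertible A) (hB : PicF.IsInvertible B) :
    h k 1 (box (k := k) A B) = h k 0 A * h k 1 B + h k 1 A * h k 0 B := by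
  rw [h_box hA hB, Fin.sum_univ_two]
  rfl

theorem h2_box (hdim : topologicalKrullDim ↥C = 1) {A B : C.Modules} (hA : PicF.IsInvertible A)
    (hB : PicF.IsInvertible B) : h k 2 (box (k := k) A B) = h k 1 A * h k 1 B := by
  rw [h_box hA hB, Fin.sum_univ_three]
  have ha := h_curve_eq_zero (k := k) hdim A le_rfl
  have hb := h_curve_eq_zero (k := k) hdim B le_rfl
  change h k 0 A * h k 2 B + h k 1 A * h k 1 B + h k 2 A * h k 0 B = _
  rw [ha, hb]
  ring

theorem euler_box (hdim : topologicalKrullDim ↥C = 1) {A B : C.Modules} (hA : PicF.IsInvertible A)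
    (hB : PicF.IsInvertible B) :
    Curv2.euler k (Sq k C) (box (k := k) A B) = Curv2.euler k C A * Curv2.euler k C B := by
  rw [euler_sq hdim, h0_box hA hB, h1_box hA hB, h2_box hdim hA hB, Groth.L21.RR.euler_eq k hdim.le,
    Groth.L21.RR.euler_eq k hdim.le]
  push_cast
  ring

theorem subsingleton_of_h {M : (Sq k C).Modules} (hM : PicF.IsInvertible M) {n : ℕ} (h0 : h k n M = 0) :
    Subsingleton (Coh.HH (Sq k C) M n) := by
  haveI := Groth.L21.RR.isNoetherian_of_proper (X := Sq k C) k
  haveI := Groth.L21.RR.finite_HH' k (Groth.L16.ProperFinite.isCoh_of_isInvertible hM) n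
  exact Module.finrank_zero_iff.1 h0

/-! ### Twists by the graph of an automorphism -/

variable {f : C ⟶ C} (hf : f ≫ (C ↘ Spec (CommRingCat.of k)) = C ↘ Spec (CommRingCat.of k))

/-- The graph. -/
abbrev graph : C ⟶ Sq k C := pullback.lift (𝟙 C) f ((Category.id_comp _).trans hf.symm)

instance isClosedImmersion_graph : IsClosedImmersion (graph hf) :=
  haveI : IsClosedImmersion (graph hf ≫ pullback.fst (C ↘ Spec (CommRingCat.of k)) (C ↘ Spec (CommRingCat.of k))) := by
    rw [pullback.lift_fst]; infer_instance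
  IsClosedImmersion.of_comp (graph hf) (pullback.fst (C ↘ Spec (CommRingCat.of k)) (C ↘ Spec (CommRingCat.of k)))

theorem graph_over : graph hf ≫ ((Sq k C) ↘ Spec (CommRingCat.of k)) = C ↘ Spec (CommRingCat.of k) :=
  (pullback.lift_fst_assoc _ _ _ _).trans (Category.id_comp _)

theorem nonempty_pullback_box (A B : C.Modules) :
    Nonempty ((Scheme.Modules.pullback (graph hf)).obj (box (k := k) A B) ≅
      CohB1.tensorMod A ((Scheme.Modules.pullback f).obj B)) :=
  ⟨(Groth.L29.DC.PullTensor.pullTensor (graph hf) _ _).symm ≪≫ tensorIso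
    ((Scheme.Modules.pullbackComp _ _).app A ≪≫ (Scheme.Modules.pullbackCongr (pullback.lift_fst _ _ _)).app A ≪≫
      (Scheme.Modules.pullbackId C).app A)
    ((Scheme.Modules.pullbackComp _ _).app B ≪≫ (Scheme.Modules.pullbackCongr (pullback.lift_snd _ _ _)).app B)⟩

variable {N : (Sq k C).Modules} (hN : PicF.IsInvertible N)
  (hNinv : ClSub.IsInverseOf N (ClSub.idealMod (graph hf).ker))

/-- The twist of a module by a multiple of the graph. -/
abbrev tw (G N : (Sq k C).Modules) (r : ℕ) : (Sq k C).Modules := CohB1.tensorMod G (CohB1.tensorPow N r)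

theorem isInvertible_tw {G N : (Sq k C).Modules} (hG : PicF.IsInvertible G) (hN : PicF.IsInvertible N) (r : ℕ) :
    PicF.IsInvertible (tw G N r) :=
  Groth.L18.GenLoc.isInvertible_tensor hG (Groth.L18.Ample.isInvertible_tensorPow hN r)

include hNinv in
theorem nonempty_tw_succ (G : (Sq k C).Modules) (r : ℕ) :
    Nonempty (CohB1.tensorMod (tw G N (r + 1)) (ClSub.idealMod (graph hf).ker) ≅ tw G N r) := by
  obtain ⟨i⟩ := hNinv
  exact ⟨tensorAssoc _ _ _ ≪≫ tensorIso (Iso.refl G)
    (tensorAssoc _ _ _ ≪≫ tensorIso (Iso.refl _) i ≪≫ tensorUnitRight _)⟩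

theorem nonempty_pullback_tw (G N : (Sq k C).Modules) (r : ℕ) :
    Nonempty ((Scheme.Modules.pullback (graph hf)).obj (tw G N r) ≅
      CohB1.tensorMod ((Scheme.Modules.pullback (graph hf)).obj G)
        (CohB1.tensorPow ((Scheme.Modules.pullback (graph hf)).obj N) r)) :=
  ⟨(Groth.L29.DC.PullTensor.pullTensor (graph hf) _ _).symm ≪≫
    tensorIso (Iso.refl _) (Groth.L18.Ample.pullPow _ _ _)⟩

include hNinv in
/-- The normal module of the graph is inverse to the differentials. -/
theorem nonempty_normal [IsIso f] :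
    Nonempty (CohB1.tensorMod ((Scheme.Modules.pullback (graph hf)).obj N)
      (Omega.sheaf (C ↘ Spec (CommRingCat.of k))) ≅ Coh.structureModule C) := by
  obtain ⟨i⟩ := hNinv
  obtain ⟨c⟩ := nonempty_conormal_graph_iso (p := C ↘ Spec (CommRingCat.of k)) hf
  exact ⟨tensorIso (Iso.refl _) c.symm ≪≫ Groth.L29.DC.PullTensor.pullTensor (graph hf) _ _ ≪≫
    (Scheme.Modules.pullback (graph hf)).mapIso i ≪≫ Groth.L29.LocFree.pullbackUnitIso _⟩

variable [Smooth (C ↘ Spec (CommRingCat.of k))] [ConnectedSpace ↥C] [IsAlgClosed k] [IsIso f]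
  (hdim : topologicalKrullDim ↥C = 1)

include hN hNinv hdim in
theorem deg_normal : Curv2.deg k C ((Scheme.Modules.pullback (graph hf)).obj N) 1 =
    2 - 2 * (Curv2.genus k C : ℤ) := by
  haveI := isIntegral (k := k) (C := C)
  obtain ⟨i⟩ := nonempty_normal hf hNinv
  have hΩ := (Groth.L21.Duality.omega_invariants (k := k) (X := C) hdim).2.2 h0_structure
  have h1 := Groth.L21.Duality.deg_tensor (k := k) hdim (Groth.L18.Ample.isInvertible_pullback (graph hf) hN)
    (Groth.L21.Duality.isInvertible_omega (k := k) hdim)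
  rw [hΩ, Groth.L21.RR.deg_congr k i, Groth.L22.CurveDeg.deg_structure] at h1
  omega

include hN hNinv hdim in
theorem deg_pullback_tw {A B : C.Modules} (hA : PicF.IsInvertible A) (hB : PicF.IsInvertible B) (r : ℕ) :
    Curv2.deg k C ((Scheme.Modules.pullback (graph hf)).obj (tw (box (k := k) A B) N r)) 1 =
      Curv2.deg k C A 1 + Curv2.deg k C ((Scheme.Modules.pullback f).obj B) 1 +
        r * (2 - 2 * (Curv2.genus k C : ℤ)) := by
  haveI := isIntegral (k := k) (C := C)
  obtain ⟨e⟩ := nonempty_pullback_tw hf (box (k := k) A B) N r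
  obtain ⟨e'⟩ := nonempty_pullback_box hf A B
  rw [Groth.L21.RR.deg_congr k (e ≪≫ tensorIso e' (Iso.refl _)),
    Groth.L21.Duality.deg_tensor hdim
      (Groth.L18.GenLoc.isInvertible_tensor hA (Groth.L18.Ample.isInvertible_pullback f hB))
      (Groth.L18.Ample.isInvertible_tensorPow (Groth.L18.Ample.isInvertible_pullback _ hN) r),
    Groth.L21.Duality.deg_tensor hdim hA (Groth.L18.Ample.isInvertible_pullback f hB),
    Groth.L21.Duality.deg_tensorPow hdim (Groth.L18.Ample.isInvertible_pullback _ hN),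
    deg_normal hf hN hNinv hdim]

include hN hNinv hdim in
/-- The Euler characteristic of a twist by a multiple of the graph. -/
theorem euler_tw {A B : C.Modules} (hA : PicF.IsInvertible A) (hB : PicF.IsInvertible B) :
    ∀ r : ℕ, Curv2.euler k (Sq k C) (tw (box (k := k) A B) N r) =
      Curv2.euler k C A * Curv2.euler k C B +
        r * (Curv2.deg k C A 1 + Curv2.deg k C ((Scheme.Modules.pullback f).obj B) 1) -
        ((Curv2.genus k C : ℤ) - 1) * r * (r + 2)
  | 0 => by
    rw [Groth.L21.RR.euler_congr k (show tw (box (k := k) A B) N 0 ≅ box (k := k) A B from tensorUnitRight _),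
      euler_box hdim hA hB]
    push_cast
    ring
  | r + 1 => by
    have hG := isInvertible_tw (isInvertible_box (k := k) hA hB) hN
    obtain ⟨e⟩ := nonempty_tw_succ hf hNinv (box (k := k) A B) r
    have h2 := deg_pullback_tw hf hN hNinv hdim hA hB (r + 1)
    rw [Curv2.deg, euler_structure hdim] at h2
    rw [euler_step (k := k) (graph hf) (hG (r + 1)) (graph_over hf) (hG r) e, euler_tw hA hB r]
    push_cast at h2 ⊢
    linarith

end Groth.L12.HypSq
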